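import Groth.Agent.Vancyc.H120.VBundle
import Groth.Agent.FlatB.AffSpaceSmooth

/-!
# Vector bundles: flat charts of the zero section, local triviality, smoothness
-/

set_option autoImplicit false
universe u

open CategoryTheory CategoryTheory.Limits AlgebraicGeometry Opposite
open AlgebraicGeometry.Scheme.AffineZariskiSite AlgebraicGeometry.Scheme

namespace Groth.Agent.Vancyc.H120.VBundle

open Groth.Agent.Sga4h.H13 AffChart PairChart Groth.Agent.CohqB.AlgSym Groth.Agent.CohqB
open Groth.Agent.Vancyc.H691.Cone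

noncomputable section

variable {X : Scheme.{u}} {G : X.Modules} {m : ℕ} (hG : Coh.IsQCoh G)

/-! ### The zero section -/

section Zero

variable {k : Type u} [Field k] (x : X ⟶ Spec (CommRingCat.of k))

theorem exists_data (h : FlatMod.IsFinLocFreeOfRank m G) (z : X) :
    ∃ (C D : Type u) (_ : CommRing C) (_ : CommRing D) (j : Spec (CommRingCat.of C) ⟶ V hG)
      (_ : IsOpenImmersion j) (ψ : C →+* D) (κ : Spec (CommRingCat.of D) ⟶ X)
      (φ : MvPolynomial (ULift.{u} (Fin m)) k →+* C), zero hG z ∈ j.opensRange ∧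
      Function.Surjective ψ ∧ IsPullback (Spec.map (CommRingCat.ofHom ψ)) κ j (zero hG) ∧
      Spec.map (CommRingCat.ofHom (φ.comp MvPolynomial.C)) = j ≫ toX hG ≫ x ∧
      RingHom.ker ψ = Ideal.span (Set.range fun a => φ (MvPolynomial.X a)) ∧ φ.Flat := by
  obtain ⟨U, hzU, ⟨b⟩⟩ := exists_basis h z
  let σ : k →+* Γ(X, U.toOpens) := (Spec.preimage ((RelSpec.isAff U).fromSpec ≫ x)).hom
  have hσ : Spec.map (CommRingCat.ofHom σ) = (RelSpec.isAff U).fromSpec ≫ x := Spec.map_preimage _
  let e : MvPolynomial (Fin m) Γ(X, U.toOpens) ≃+*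
      SymmetricAlgebra Γ(X, U.toOpens) Γ(G, U.toOpens) :=
    (SymmetricAlgebra.equivMvPolynomial b).symm.toRingEquiv
  have heC : ∀ r, e (MvPolynomial.C r) = algebraMap _ _ r :=
    (SymmetricAlgebra.equivMvPolynomial b).symm.commutes
  have heX : ∀ i, e (MvPolynomial.X i) = SymmetricAlgebra.ι _ _ (b i) :=
    SymmetricAlgebra.equivMvPolynomial_symm_X b
  refine ⟨_, _, inferInstance, inferInstance, ch hG U, inferInstance, aug U, _,
    e.toRingHom.comp (coef σ m), ?_, aug_surjective U, isPullback_zero hG U, ?_, ?_, ?_⟩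
  · rw [← preimage_toX]
    change toX hG (zero hG z) ∈ U.toOpens
    rw [← Scheme.Hom.comp_apply, zero_toX]
    exact hzU
  · have h1 : (e.toRingHom.comp (coef σ m)).comp MvPolynomial.C =
        (algebraMap Γ(X, U.toOpens) (SymmetricAlgebra Γ(X, U.toOpens) Γ(G, U.toOpens))).comp σ := by
      ext a
      simp only [RingHom.comp_apply]
      rw [coef_C]
      exact heC _
    rw [h1, CommRingCat.ofHom_comp, Spec.map_comp, hσ, ← Category.assoc, ← (isPullback_ch hG U).w,
      Category.assoc]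
  · rw [ker_aug U b]
    congr 1
    ext c
    constructor
    · rintro ⟨a, rfl⟩
      exact ⟨ULift.up a, by simp only [RingHom.comp_apply]; rw [coef_X]; exact heX _⟩
    · rintro ⟨a, rfl⟩
      exact ⟨a.down, by simp only [RingHom.comp_apply]; rw [coef_X]; exact (heX _).symm⟩
  · have h1 := flat_coef σ m
    have h2 : IsIso (CommRingCat.ofHom e.toRingHom) := e.toCommRingCatIso.isIso_hom
    have h3 : Flat (Spec.map (CommRingCat.ofHom (e.toRingHom.comp (coef σ m)))) := by
      rw [CommRingCat.ofHom_comp, Spec.map_comp]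
      infer_instance
    exact (HasRingHomProperty.Spec_iff (P := @Flat)).1 h3

/-- **Flat charts along the zero section.** -/
theorem exists_chart (h : FlatMod.IsFinLocFreeOfRank m G) (z : X) :
    ∃ (U : (V hG).Opens) (Φ : U.toScheme ⟶ Aff k m), IsAffineOpen U ∧ zero hG z ∈ U ∧
      Φ ≫ Aff.str k m = U.ι ≫ toX hG ≫ x ∧
      (origin k m).ker.comap Φ = (zero hG).ker.comap U.ι ∧ Flat Φ := by
  obtain ⟨C, D, _, _, j, _, ψ, κ, φ, h1, h2, h3, h4, h5, h6⟩ := exists_data hG x h z
  obtain ⟨Φ, e1, e2, e3⟩ := AffChart.exists_chart (toX hG ≫ x) (zero hG) j ψ h2 κ h3 φ h4 h5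
  exact ⟨j.opensRange, Φ, isAffineOpen_opensRange j, h1, e1, e2, e3 h6⟩

omit [Field k] in
/-- Local equations of the zero section. -/
theorem exists_eqs (h : FlatMod.IsFinLocFreeOfRank m G) (z : X) :
    ∃ (U : (V hG).affineOpens) (v : ULift.{u} (Fin m) → Γ(V hG, U.1)), zero hG z ∈ U.1 ∧
      (zero hG).ker.ideal U = Ideal.span (Set.range v) := by
  obtain ⟨U, hzU, ⟨b⟩⟩ := exists_basis h z
  refine ⟨⟨ch hG U ''ᵁ ⊤, DefSp.affU (ch hG U)⟩,
    fun a => (DefSp.eta (ch hG U)).hom.hom (SymmetricAlgebra.ι _ _ (b a.down)), ?_, ?_⟩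
  · change zero hG z ∈ ch hG U ''ᵁ ⊤
    rw [Scheme.Hom.image_top_eq_opensRange, ← preimage_toX]
    change toX hG (zero hG z) ∈ U.toOpens
    rw [← Scheme.Hom.comp_apply, zero_toX]
    exact hzU
  · rw [DefSp.ideal_of_isPullback (ch hG U) (zero hG) _ _ (isPullback_zero hG U), ker_aug U b,
      Ideal.map_span, ← Set.range_comp]
    congr 1
    ext c
    constructor
    · rintro ⟨a, rfl⟩
      exact ⟨ULift.up a, rfl⟩
    · rintro ⟨a, rfl⟩
      exact ⟨a.down, rfl⟩

end Zero

/-! ### Local triviality -/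

/-- A vector bundle is locally an affine space. -/
theorem exists_trivialization (h : FlatMod.IsFinLocFreeOfRank m G) (z : X) :
    ∃ (Y E' : Scheme.{u}) (j : Y ⟶ X) (j' : E' ⟶ V hG) (p' : E' ⟶ Y), IsOpenImmersion j ∧
      z ∈ Set.range j ∧ IsPullback j' p' (toX hG) j ∧
      ∃ e : E' ⟶ 𝔸(ULift.{u} (Fin m); Y), IsIso e ∧ e ≫ (𝔸(ULift.{u} (Fin m); Y) ↘ Y) = p' := by
  obtain ⟨U, hzU, ⟨b0⟩⟩ := exists_basis h z
  let b := b0.reindex (Equiv.ulift.{u} (α := Fin m)).symm
  let e : MvPolynomial (ULift.{u} (Fin m)) Γ(X, U.toOpens) ≃+*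
      SymmetricAlgebra Γ(X, U.toOpens) Γ(G, U.toOpens) :=
    (SymmetricAlgebra.equivMvPolynomial b).symm.toRingEquiv
  have heC : ∀ r, e (MvPolynomial.C r) = algebraMap _ _ r :=
    (SymmetricAlgebra.equivMvPolynomial b).symm.commutes
  have h2 : IsIso (CommRingCat.ofHom e.toRingHom) := e.toCommRingCatIso.isIso_hom
  refine ⟨_, _, (RelSpec.isAff U).fromSpec, ch hG U, _, inferInstance, ?_, isPullback_ch hG U,
    Spec.map (CommRingCat.ofHom e.toRingHom) ≫
      (AffineSpace.SpecIso (ULift.{u} (Fin m)) Γ(X, U.toOpens)).inv, inferInstance, ?_⟩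
  · rw [(RelSpec.isAff U).range_fromSpec]
    exact hzU
  · rw [Category.assoc, AffineSpace.SpecIso_inv_over, ← Spec.map_comp, ← CommRingCat.ofHom_comp]
    congr 2
    ext r
    exact heC r

/-- Smoothness of vector bundles. -/
theorem smoothOfRelativeDimension_toX (h : FlatMod.IsFinLocFreeOfRank m G) :
    SmoothOfRelativeDimension m (toX hG) := by
  choose U hU b using fun z => exists_basis h z
  let 𝒰 : X.OpenCover :=
    { I₀ := X
      X := fun x => Spec Γ(X, (U x).toOpens)
      f := fun x => (RelSpec.isAff (U x)).fromSpec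
      mem₀ := by
        rw [presieve₀_mem_precoverage_iff]
        refine ⟨fun w => ⟨w, ?_⟩, inferInstance⟩
        rw [(RelSpec.isAff (U w)).range_fromSpec]
        exact hU w }
  rw [IsZariskiLocalAtTarget.iff_of_openCover (P := @SmoothOfRelativeDimension m) 𝒰]
  intro z
  have h1 := isPullback_ch hG (U z)
  have h3 : pullback.snd (toX hG) (RelSpec.isAff (U z)).fromSpec = h1.isoPullback.inv ≫
      Spec.map (CommRingCat.ofHom (algebraMap Γ(X, (U z).toOpens)
        (SymmetricAlgebra Γ(X, (U z).toOpens) Γ(G, (U z).toOpens)))) := by simp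
  change SmoothOfRelativeDimension m (pullback.snd (toX hG) (RelSpec.isAff (U z)).fromSpec)
  rw [h3, MorphismProperty.cancel_left_of_respectsIso (P := @SmoothOfRelativeDimension m)]
  obtain ⟨b⟩ := b z
  let e : MvPolynomial (Fin m) Γ(X, (U z).toOpens) ≃+*
      SymmetricAlgebra Γ(X, (U z).toOpens) Γ(G, (U z).toOpens) :=
    (SymmetricAlgebra.equivMvPolynomial b).symm.toRingEquiv
  have heC : e.toRingHom.comp (algebraMap Γ(X, (U z).toOpens)
      (MvPolynomial (Fin m) Γ(X, (U z).toOpens))) = algebraMap _ _ :=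
    RingHom.ext (SymmetricAlgebra.equivMvPolynomial b).symm.commutes
  have h2 : IsIso (CommRingCat.ofHom e.toRingHom) := e.toCommRingCatIso.isIso_hom
  rw [← heC, CommRingCat.ofHom_comp, Spec.map_comp,
    MorphismProperty.cancel_left_of_respectsIso (P := @SmoothOfRelativeDimension m)]
  exact FlatB.AffSpaceSmooth.smoothOfRelativeDimension_SpecMap _ m

end

end Groth.Agent.Vancyc.H120.VBundle
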