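import Groth.Agent.Vancyc.H120.DefSp3

/-!
# The zero section of the deformation to the normal cone
-/

set_option autoImplicit false
universe u

open CategoryTheory CategoryTheory.Limits AlgebraicGeometry Opposite
open AlgebraicGeometry.Scheme.AffineZariskiSite AlgebraicGeometry.Scheme

namespace Groth.Agent.Vancyc.H120.DefSp

open Rees ReesFlat ReesSch ReesFib Groth.Agent.CohqB.RelSpec

noncomputable section

section FnOf

variable {T : Scheme.{u}} {A : Type u} [CommRing A] (τ : T ⟶ Spec (CommRingCat.of A))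

theorem appTop_eq {T' : Scheme.{u}} (k : T' ⟶ T) :
    k.appTop = k.appLE ⊤ ⊤ (le_of_eq rfl) := by
  simp [Scheme.Hom.appLE]

/-- The ring map attached to a morphism to an affine scheme. -/
def fnOf (V : T.Opens) : A →+* Γ(T, V) :=
  ((Scheme.ΓSpecIso (CommRingCat.of A)).inv ≫ τ.appTop ≫
    T.presheaf.map (homOfLE le_top : V ⟶ ⊤).op).hom

theorem toSpecΓ_fnOf (V : T.Opens) :
    V.toSpecΓ ≫ Spec.map (CommRingCat.ofHom (fnOf τ V)) = V.ι ≫ τ := by
  rw [fnOf, CommRingCat.ofHom_hom, Spec.map_comp, Spec.map_comp]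
  rw [Category.assoc, Scheme.Opens.toSpecΓ_SpecMap_presheaf_map_top_assoc, ← Scheme.toSpecΓ_naturality_assoc]
  rw [← SpecMap_ΓSpecIso_hom, ← Spec.map_comp, Iso.inv_hom_id, Spec.map_id, Category.comp_id]

theorem map_fnOf {U V : T.Opens} (h : U ≤ V) (a : A) :
    (T.presheaf.map (homOfLE h).op).hom (fnOf τ V a) = fnOf τ U a := by
  have : fnOf τ U = ((T.presheaf.map (homOfLE h).op).hom).comp (fnOf τ V) := by
    unfold fnOf
    rw [← CommRingCat.hom_comp]
    congr 1
    rw [Category.assoc, Category.assoc, ← Functor.map_comp]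
    rfl
  rw [this]
  rfl

theorem app_fnOf {T' : Scheme.{u}} (k : T' ⟶ T) (V : T.Opens) (V' : T'.Opens)
    (h : V' ≤ k ⁻¹ᵁ V) (a : A) :
    (k.appLE V V' h).hom (fnOf τ V a) = fnOf (k ≫ τ) V' a := by
  have : fnOf (k ≫ τ) V' = ((k.appLE V V' h).hom).comp (fnOf τ V) := by
    unfold fnOf
    rw [← CommRingCat.hom_comp]
    congr 1
    simp only [Category.assoc, Scheme.Hom.comp_appTop]
    rw [Scheme.Hom.map_appLE]
    rfl
  rw [this]
  rfl

theorem fnOf_comp {A' : Type u} [CommRing A'] (f : A' →+* A) (V : T.Opens) (a : A') :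
    fnOf (τ ≫ Spec.map (CommRingCat.ofHom f)) V a = fnOf τ V (f a) := by
  have : fnOf (τ ≫ Spec.map (CommRingCat.ofHom f)) V = (fnOf τ V).comp f := by
    unfold fnOf
    have h1 : (fnOf τ V).comp f = (CommRingCat.ofHom f ≫ CommRingCat.ofHom (fnOf τ V)).hom := rfl
    change _ = (CommRingCat.ofHom f ≫ _).hom
    congr 1
    simp only [Scheme.Hom.comp_appTop, Category.assoc]
    rw [Scheme.ΓSpecIso_inv_naturality_assoc]
  rw [this]
  rfl

theorem rho_eq_fnOf {X : Scheme.{u}} {R : Type u} [CommRing R] (p : X ⟶ Spec (CommRingCat.of R))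
    (U : X.AffineZariskiSite) : rho p U = fnOf p U.toOpens := by
  have h1 : IsIso U.toOpens.toSpecΓ := by
    rw [← IsAffineOpen.isoSpec_hom (isAff U)]
    infer_instance
  have h2 : Spec.map (CommRingCat.ofHom (rho p U)) =
      Spec.map (CommRingCat.ofHom (fnOf p U.toOpens)) := by
    rw [← cancel_epi U.toOpens.toSpecΓ, toSpecΓ_fnOf, Spec_rho,
      (isAff U).toSpecΓ_fromSpec_assoc]
  exact congrArg CommRingCat.Hom.hom (Spec.map_injective h2)

end FnOf

section Zeta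

variable {X : Scheme.{u}} (J : X.IdealSheafData) {R : Type u} [CommRing R]
  (p : X ⟶ Spec (CommRingCat.of R))

theorem app_eq_zero {T : Scheme.{u}} (g : T ⟶ X) (hg : J ≤ g.ker) (U : X.AffineZariskiSite) :
    ∀ a ∈ idl J U, (g.app U.toOpens).hom a = 0 := fun a ha =>
  g.ideal_ker_le ⟨U.toOpens, U.2⟩ (hg ⟨U.toOpens, U.2⟩ ha)

/-- The ring maps of `zeta`. -/
def zetaψ {T : Scheme.{u}} (g : T ⟶ X) (hg : J ≤ g.ker) (s : Γ(T, ⊤))
    (U : X.AffineZariskiSite) : rees (idl J U) →+* Γ(T, g ⁻¹ᵁ U.toOpens) :=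
  (Polynomial.evalRingHom ((T.presheaf.map (homOfLE le_top : g ⁻¹ᵁ U.toOpens ⟶ ⊤).op).hom s)).comp
    (polyMap (idl J U) (g.app U.toOpens).hom (app_eq_zero J g hg U))

theorem zetaψ_algebraMap {T : Scheme.{u}} (g : T ⟶ X) (hg : J ≤ g.ker) (s : Γ(T, ⊤))
    (U : X.AffineZariskiSite) (r : Γ(X, U.toOpens)) :
    zetaψ J g hg s U (algebraMap _ _ r) = (g.app U.toOpens).hom r := by
  simp [zetaψ]

theorem zetaψ_t {T : Scheme.{u}} (g : T ⟶ X) (hg : J ≤ g.ker) (s : Γ(T, ⊤))
    (U : X.AffineZariskiSite) :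
    zetaψ J g hg s U (t _) = (T.presheaf.map (homOfLE le_top : g ⁻¹ᵁ U.toOpens ⟶ ⊤).op).hom s := by
  simp [zetaψ]

/-- The data of `zeta`. -/
def zetaData {T : Scheme.{u}} (g : T ⟶ X) (hg : J ≤ g.ker) (s : Γ(T, ⊤)) :
    LiftData (reesα J) g where
  ψ U := CommRingCat.ofHom (zetaψ J g hg s U)
  nat {U V} i := by
    ext1
    refine RingHom.ext fun q => ?_
    change zetaψ J g hg s U (Rees.map (idl J V) (idl J U) (resH i) (idl_map J i).le q) =
      (T.presheaf.map (homOfLE (g.preimage_mono (toOpens_mono i.le))).op).hom (zetaψ J g hg s V q)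
    simp only [zetaψ, RingHom.comp_apply, Polynomial.coe_evalRingHom]
    rw [polyMap_map (idl J V) (g.app V.toOpens).hom (app_eq_zero J g hg V) (idl J U) (resH i)
      (idl_map J i).le (g.app U.toOpens).hom (app_eq_zero J g hg U)
      (T.presheaf.map (homOfLE (g.preimage_mono (toOpens_mono i.le))).op).hom]
    · rw [Polynomial.eval_map, Polynomial.eval, Polynomial.hom_eval₂]
      congr 1
      rw [← CommRingCat.comp_apply, ← Functor.map_comp]
      rfl
    · ext r
      exact congr(($(g.naturality (homOfLE (toOpens_mono i.le)).op)).hom r).symm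
  comp U := by
    ext1
    refine RingHom.ext fun r => ?_
    exact zetaψ_algebraMap J g hg s U r

/-- For `g : T ⟶ X` killing `J` and a function `s` on `T`, the morphism `T ⟶ W` over `g`. -/
def zetaS {T : Scheme.{u}} (g : T ⟶ X) (hg : J ≤ g.ker) (s : Γ(T, ⊤)) : T ⟶ W J :=
  lift (coequifibered J) (zetaData J g hg s)

@[reassoc (attr := simp)]
theorem zetaS_toX {T : Scheme.{u}} (g : T ⟶ X) (hg : J ≤ g.ker) (s : Γ(T, ⊤)) :
    zetaS J g hg s ≫ toX J = g := lift_toBase (coequifibered J) _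

@[reassoc]
theorem ι_zetaS {T : Scheme.{u}} (g : T ⟶ X) (hg : J ≤ g.ker) (s : Γ(T, ⊤))
    (U : X.AffineZariskiSite) :
    (g ⁻¹ᵁ U.toOpens).ι ≫ zetaS J g hg s = (g ⁻¹ᵁ U.toOpens).toSpecΓ ≫
      Spec.map (CommRingCat.ofHom (zetaψ J g hg s U)) ≫ chart J U :=
  ι_lift (coequifibered J) _ U

/-- The function attached to a morphism to the affine line. -/
def fn {T : Scheme.{u}} (τ : T ⟶ Spec (CommRingCat.of (Polynomial R))) : Γ(T, ⊤) :=
  fnOf τ ⊤ Polynomial.X

/-- For `g : T ⟶ X` killing `J` and `τ : T ⟶ 𝔸¹_R`, the morphism `T ⟶ W` over `g`, `τ`. -/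
def zeta {T : Scheme.{u}} (g : T ⟶ X) (hg : J ≤ g.ker)
    (τ : T ⟶ Spec (CommRingCat.of (Polynomial R))) : T ⟶ W J := zetaS J g hg (fn τ)

@[reassoc (attr := simp)]
theorem zeta_toX {T : Scheme.{u}} (g : T ⟶ X) (hg : J ≤ g.ker)
    (τ : T ⟶ Spec (CommRingCat.of (Polynomial R))) : zeta J g hg τ ≫ toX J = g :=
  zetaS_toX J g hg _

@[reassoc]
theorem zeta_tW {T : Scheme.{u}} (g : T ⟶ X) (hg : J ≤ g.ker)
    (τ : T ⟶ Spec (CommRingCat.of (Polynomial R)))
    (w : g ≫ p = τ ≫ Spec.map (CommRingCat.ofHom (Polynomial.C : R →+* Polynomial R))) :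
    zeta J g hg τ ≫ tW J p = τ := by
  refine Scheme.Cover.hom_ext (T.openCoverOfIsOpenCover _
    (.comap (iSup_affineOpens_eq_top X) g.base.hom)) _ _ fun U ↦ ?_
  let U' : X.AffineZariskiSite := ⟨U.1, U.2⟩
  change (g ⁻¹ᵁ U'.toOpens).ι ≫ zeta J g hg τ ≫ tW J p = (g ⁻¹ᵁ U'.toOpens).ι ≫ τ
  rw [zeta, ι_zetaS_assoc, chart_tW, ← toSpecΓ_fnOf, ← Spec.map_comp, ← CommRingCat.ofHom_comp]
  congr 3
  apply Polynomial.ringHom_ext
  · intro r
    simp only [tRees, RingHom.comp_apply, Polynomial.coe_eval₂RingHom, Polynomial.eval₂_C]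
    rw [zetaψ_algebraMap, ← fnOf_comp, ← w, rho_eq_fnOf]
    rw [← app_fnOf p g U'.toOpens (g ⁻¹ᵁ U'.toOpens) le_rfl, Scheme.Hom.app_eq_appLE]
  · simp only [tRees, RingHom.comp_apply, Polynomial.coe_eval₂RingHom, Polynomial.eval₂_X]
    rw [zetaψ_t, fn, map_fnOf]

/-- Naturality of `zeta`. -/
theorem comp_zetaS {T T' : Scheme.{u}} (k : T' ⟶ T) (g : T ⟶ X) (hg : J ≤ g.ker) (s : Γ(T, ⊤))
    (g' : T' ⟶ X) (hg' : J ≤ g'.ker) (s' : Γ(T', ⊤)) (h1 : k ≫ g = g')
    (h2 : k.appTop.hom s = s') :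
    k ≫ zetaS J g hg s = zetaS J g' hg' s' := by
  refine comp_lift (coequifibered J) (zetaData J g' hg' s') (zetaData J g hg s) k h1 ?_
  intro U h
  subst h1
  ext1
  refine RingHom.ext fun q => ?_
  change (k.appLE _ _ h).hom (zetaψ J g hg s U q) = zetaψ J (k ≫ g) hg' s' U q
  simp only [zetaψ, RingHom.comp_apply, Polynomial.coe_evalRingHom]
  have h3 := polyMap_map (idl J U) (g.app U.toOpens).hom (app_eq_zero J g hg U) (idl J U)
    (RingHom.id _) (by rw [Ideal.map_id]) ((k ≫ g).app U.toOpens).hom (app_eq_zero J _ hg' U)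
      (k.appLE _ _ h).hom (by
        ext r
        rw [Scheme.Hom.comp_app]
        simp [Scheme.Hom.app_eq_appLE]
        rfl) q
  have h4 : Rees.map (idl J U) (idl J U) (RingHom.id _) (by rw [Ideal.map_id]) q = q := by
    apply Subtype.ext
    ext n
    rw [coe_map, coeff_lmap]
    rfl
  rw [h4] at h3
  rw [h3, Polynomial.eval_map, Polynomial.eval, Polynomial.hom_eval₂, ← h2]
  congr 1
  have h5 : T.presheaf.map (homOfLE le_top : g ⁻¹ᵁ U.toOpens ⟶ ⊤).op ≫ k.appLE _ _ h =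
      k.appTop ≫ T'.presheaf.map (homOfLE le_top : (k ≫ g) ⁻¹ᵁ U.toOpens ⟶ ⊤).op := by
    rw [Scheme.Hom.map_appLE, appTop_eq, Scheme.Hom.appLE_map]
  exact congr(($h5).hom s)

theorem comp_zeta {T T' : Scheme.{u}} (k : T' ⟶ T) (g : T ⟶ X) (hg : J ≤ g.ker)
    (τ : T ⟶ Spec (CommRingCat.of (Polynomial R))) (hg' : J ≤ (k ≫ g).ker) :
    k ≫ zeta J g hg τ = zeta J (k ≫ g) hg' (k ≫ τ) := by
  apply comp_zetaS
  · rfl
  · rw [fn, fn, ← app_fnOf τ k ⊤ ⊤ (le_of_eq rfl), ← appTop_eq]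

theorem zeta_congr {T : Scheme.{u}} {g g' : T ⟶ X} (hg : J ≤ g.ker) (hg' : J ≤ g'.ker)
    {τ τ' : T ⟶ Spec (CommRingCat.of (Polynomial R))} (h1 : g = g') (h2 : τ = τ') :
    zeta J g hg τ = zeta J g' hg' τ' := by
  subst h1 h2; rfl

/-- The section at `1` restricted to the centre. -/
theorem comp_one {T : Scheme.{u}} (g : T ⟶ X) (hg : J ≤ g.ker)
    (τ : T ⟶ Spec (CommRingCat.of (Polynomial R)))
    (hτ : τ = g ≫ p ≫ Spec.map (CommRingCat.ofHom (Polynomial.evalRingHom (1 : R)))) :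
    g ≫ one J = zeta J g hg τ := by
  have hs : fn τ = 1 := by
    rw [fn, hτ, ← Category.assoc, fnOf_comp]
    simp
  refine comp_lift (coequifibered J) (zetaData J g hg (fn τ)) (oneData J) g (Category.comp_id _) ?_
  intro U h
  ext1
  refine RingHom.ext fun q => ?_
  change (g.appLE _ _ h).hom (eps (idl J U) q) = zetaψ J g hg (fn τ) U q
  simp only [zetaψ, RingHom.comp_apply, Polynomial.coe_evalRingHom, hs, map_one]
  have h0 : g.appLE ((𝟙 X : X ⟶ X) ⁻¹ᵁ U.toOpens) (g ⁻¹ᵁ U.toOpens) h = g.app U.toOpens := by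
    rw [Scheme.Hom.app_eq_appLE]
    rfl
  rw [h0]
  have h1 : ∀ P : Polynomial Γ(T, g ⁻¹ᵁ U.toOpens),
      LaurentPolynomial.eval₂ (RingHom.id _) (1 : Γ(T, g ⁻¹ᵁ U.toOpens)ˣ)
        (Polynomial.toLaurent P) = P.eval 1 := by
    intro P
    rw [LaurentPolynomial.eval₂_toLaurent]
    rfl
  rw [← h1, toLaurent_polyMap, eps_apply]
  change (g.app U.toOpens).hom (LaurentPolynomial.eval₂ (RingHom.id _) 1
    ((show rees (idl J U) from q) : LaurentPolynomial Γ(X, U.toOpens))) =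
      LaurentPolynomial.eval₂ (RingHom.id _) 1 (lmap (g.app U.toOpens).hom
        ((show rees (idl J U) from q) : LaurentPolynomial Γ(X, U.toOpens)))
  generalize ((show rees (idl J U) from q) : LaurentPolynomial Γ(X, U.toOpens)) = x
  induction x using LaurentPolynomial.induction_on' with
  | add x y hx hy => rw [map_add, map_add, map_add, map_add, hx, hy]
  | C_mul_T n a =>
    rw [map_mul (lmap _), lmap_C, lmap_T, LaurentPolynomial.eval₂_C_mul_T,
      LaurentPolynomial.eval₂_C_mul_T]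
    simp

end Zeta

section Closed

variable {X Z : Scheme.{u}} (z : Z ⟶ X) {R : Type u} [CommRing R]
  (p : X ⟶ Spec (CommRingCat.of R))

instance isSeparated_toX (J : X.IdealSheafData) : IsSeparated (toX J) := inferInstance

/-- `W ⟶ X × 𝔸¹`. -/
def toProd (J : X.IdealSheafData) :
    W J ⟶ pullback p (Spec.map (CommRingCat.ofHom (Polynomial.C : R →+* Polynomial R))) :=
  pullback.lift (toX J) (tW J p) (tW_C J p).symm

instance isSeparated_toProd (J : X.IdealSheafData) : IsSeparated (toProd p J) := by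
  have h : IsSeparated (toProd p J ≫ pullback.fst _ _) := by
    rw [toProd, pullback.lift_fst]; infer_instance
  exact IsSeparated.of_comp _ (pullback.fst p _)

variable {Z' : Scheme.{u}} {a : Z' ⟶ Z} {b : Z' ⟶ Spec (CommRingCat.of (Polynomial R))}
  (h : IsPullback a b (z ≫ p) (Spec.map (CommRingCat.ofHom (Polynomial.C : R →+* Polynomial R))))

include h in
theorem isPullback_toProd (hk : z.ker ≤ (a ≫ z).ker) :
    IsPullback (zeta z.ker (a ≫ z) hk b ≫ toProd p z.ker) a (pullback.fst p _) z := by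
  have h1 : zeta z.ker (a ≫ z) hk b ≫ toProd p z.ker ≫ pullback.snd p _ = b := by
    rw [toProd, pullback.lift_snd, zeta_tW]
    rw [← h.w, Category.assoc]
  have h2 : zeta z.ker (a ≫ z) hk b ≫ toProd p z.ker ≫ pullback.fst p _ = a ≫ z := by
    rw [toProd, pullback.lift_fst, zeta_toX]
  refine IsPullback.of_right (h₁₂ := pullback.snd p _) (h₂₂ := p)
    (v₁₃ := Spec.map (CommRingCat.ofHom (Polynomial.C : R →+* Polynomial R))) ?_ ?_ ?_
  · rw [Category.assoc, h1]
    exact h.flip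
  · rw [Category.assoc, h2]
  · exact (IsPullback.of_hasPullback p _).flip

include h in
/-- The family of zero sections is a closed immersion. -/
theorem isClosedImmersion_zeta [IsClosedImmersion z] (hk : z.ker ≤ (a ≫ z).ker) :
    IsClosedImmersion (zeta z.ker (a ≫ z) hk b) := by
  have h1 : IsClosedImmersion (zeta z.ker (a ≫ z) hk b ≫ toProd p z.ker) :=
    MorphismProperty.of_isPullback (isPullback_toProd z p h hk).flip ‹IsClosedImmersion z›
  exact IsClosedImmersion.of_comp _ (toProd p z.ker)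

end Closed

end

end Groth.Agent.Vancyc.H120.DefSp
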