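import Groth.Agent.Sga4h.H13.FamStmt
import Groth.Agent.Sga4B.PushoutQuot
import Mathlib.AlgebraicGeometry.IdealSheaf.Functorial
import Mathlib.AlgebraicGeometry.Morphisms.Flat

/-!
# Local equations as maps to affine space
-/

set_option autoImplicit false
universe u

open CategoryTheory CategoryTheory.Limits AlgebraicGeometry

namespace Groth.Agent.Vancyc.H120.AffChart

open Groth.Agent.Sga4h.H13

noncomputable section

/-- The kernel of the base change of a closed immersion. -/
theorem ker_of_isPullback {P Z X Y : Scheme.{u}} {a : P ⟶ Y} {b : P ⟶ Z} {f : Y ⟶ X} {i : Z ⟶ X}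
    [IsClosedImmersion i] (h : IsPullback a b f i) : a.ker = i.ker.comap f := by
  rw [← Scheme.IdealSheafData.ker_fst_of_isClosedImmersion,
    ← Scheme.Hom.ker_comp_of_isIso h.isoPullback.hom, h.isoPullback_hom_fst]

variable {k : Type u} [Field k] {m : ℕ} {C : Type u} [CommRing C]

/-- The map to affine space given by functions on an affine scheme. -/
def toAff (φ : MvPolynomial (ULift.{u} (Fin m)) k →+* C) : Spec (CommRingCat.of C) ⟶ Aff k m :=
  Spec.map (CommRingCat.ofHom φ) ≫
    (AffineSpace.SpecIso (ULift.{u} (Fin m)) (CommRingCat.of k)).inv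

@[reassoc]
theorem toAff_str (φ : MvPolynomial (ULift.{u} (Fin m)) k →+* C) :
    toAff φ ≫ Aff.str k m = Spec.map (CommRingCat.ofHom (φ.comp MvPolynomial.C)) := by
  rw [toAff, Category.assoc, CommRingCat.ofHom_comp, Spec.map_comp]
  congr 1
  exact AffineSpace.SpecIso_inv_over _

theorem flat_toAff (φ : MvPolynomial (ULift.{u} (Fin m)) k →+* C) (h : φ.Flat) :
    Flat (toAff φ) := by
  have h1 : Flat (Spec.map (CommRingCat.ofHom φ)) :=
    (HasRingHomProperty.Spec_iff (P := @Flat)).2 h
  unfold toAff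
  infer_instance

/-- Evaluation at the origin. -/
def ev0 (k : Type u) [Field k] (m : ℕ) : MvPolynomial (ULift.{u} (Fin m)) k →+* k :=
  MvPolynomial.eval₂Hom (RingHom.id k) fun _ => 0

theorem ev0_surjective : Function.Surjective (ev0 k m) := fun a => ⟨MvPolynomial.C a, by simp [ev0]⟩

theorem sub_mem (p : MvPolynomial (ULift.{u} (Fin m)) k) :
    p - MvPolynomial.C (ev0 k m p) ∈
      Ideal.span (Set.range (MvPolynomial.X (R := k) (σ := ULift.{u} (Fin m)))) := by
  induction p using MvPolynomial.induction_on with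
  | C a => simp [ev0]
  | add p q hp hq =>
    rw [map_add, map_add, add_sub_add_comm]
    exact add_mem hp hq
  | mul_X p i _ =>
    have : ev0 k m (p * MvPolynomial.X i) = 0 := by simp [ev0]
    rw [this, map_zero, sub_zero]
    exact Ideal.mul_mem_left _ _ (Ideal.subset_span ⟨i, rfl⟩)

theorem ker_ev0_le : RingHom.ker (ev0 k m) ≤ Ideal.span (Set.range MvPolynomial.X) := by
  intro p hp
  have := sub_mem p
  rwa [(RingHom.mem_ker).1 hp, map_zero, sub_zero] at this

theorem X_mem_ker_ev0 (i : ULift.{u} (Fin m)) : MvPolynomial.X i ∈ RingHom.ker (ev0 k m) := by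
  simp [ev0]

theorem origin_eq : origin k m = toAff (ev0 k m) := by
  apply AffineSpace.hom_ext
  · rw [toAff_str]
    refine (origin_str k m).trans ?_
    rw [← Spec.map_id]
    congr 1
    ext a
    simp [ev0]
  · intro i
    rw [origin, AffineSpace.homOfVector_appTop_coord, toAff, Scheme.Hom.comp_appTop,
      CommRingCat.comp_apply, AffineSpace.SpecIso_inv_appTop_coord, ← CommRingCat.comp_apply,
      ← Scheme.ΓSpecIso_inv_naturality, CommRingCat.comp_apply]
    have : (CommRingCat.ofHom (ev0 k m)).hom (MvPolynomial.X i) = 0 := X_mem_ker_ev0 i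
    exact (congrArg (Scheme.ΓSpecIso (CommRingCat.of k)).inv.hom this).symm ▸
      (map_zero (Scheme.ΓSpecIso (CommRingCat.of k)).inv.hom).symm

instance isClosedImmersion_origin : IsClosedImmersion (origin k m) := by
  rw [origin_eq]
  have : IsClosedImmersion (Spec.map (CommRingCat.ofHom (ev0 k m))) :=
    IsClosedImmersion.spec_of_surjective _ ev0_surjective
  unfold toAff
  infer_instance

theorem isPullback_origin {D : Type u} [CommRing D] (φ : MvPolynomial (ULift.{u} (Fin m)) k →+* C)
    (ψ : C →+* D) (hψ : Function.Surjective ψ)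
    (hker : RingHom.ker ψ = Ideal.span (Set.range fun a => φ (MvPolynomial.X a))) :
    IsPullback (Spec.map (CommRingCat.ofHom ψ))
      (Spec.map (CommRingCat.ofHom ((ψ.comp φ).comp MvPolynomial.C))) (toAff φ) (origin k m) := by
  rw [origin_eq]
  have h1 : IsPushout (CommRingCat.ofHom (ev0 k m)) (CommRingCat.ofHom φ)
      (CommRingCat.ofHom ((ψ.comp φ).comp MvPolynomial.C)) (CommRingCat.ofHom ψ) := by
    apply Sga4B.PushoutQuot.isPushout_of_surjective
    · apply CommRingCat.hom_ext
      apply MvPolynomial.ringHom_ext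
      · intro a
        simp [ev0]
      · intro a
        have h2 : φ (MvPolynomial.X a) ∈ RingHom.ker ψ := by
          rw [hker]
          exact Ideal.subset_span ⟨a, rfl⟩
        rw [RingHom.mem_ker] at h2
        simp [ev0, h2]
    · exact ev0_surjective
    · exact hψ
    · simp only [CommRingCat.hom_ofHom]
      rw [hker, Ideal.span_le]
      rintro _ ⟨a, rfl⟩
      exact Ideal.mem_map_of_mem φ (X_mem_ker_ev0 a)
  have h2 := h1.op.map Scheme.Spec
  refine h2.of_iso (Iso.refl _) (Iso.refl _) (Iso.refl _)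
    (AffineSpace.SpecIso (ULift.{u} (Fin m)) (CommRingCat.of k)).symm ?_ ?_ ?_ ?_
  · simp
  · simp
  · simp [toAff]
  · simp [toAff]

/-- Charts of a closed immersion. -/
theorem exists_chart {X Z : Scheme.{u}} (x : X ⟶ Spec (CommRingCat.of k)) (i : Z ⟶ X)
    [IsClosedImmersion i] {D : Type u} [CommRing D] (j : Spec (CommRingCat.of C) ⟶ X)
    [IsOpenImmersion j] (ψ : C →+* D) (hψ : Function.Surjective ψ)
    (κ : Spec (CommRingCat.of D) ⟶ Z) (h : IsPullback (Spec.map (CommRingCat.ofHom ψ)) κ j i)
    (φ : MvPolynomial (ULift.{u} (Fin m)) k →+* C)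
    (h1 : Spec.map (CommRingCat.ofHom (φ.comp MvPolynomial.C)) = j ≫ x)
    (h2 : RingHom.ker ψ = Ideal.span (Set.range fun a => φ (MvPolynomial.X a))) :
    ∃ Φ : (j.opensRange).toScheme ⟶ Aff k m, Φ ≫ Aff.str k m = j.opensRange.ι ≫ x ∧
      (origin k m).ker.comap Φ = i.ker.comap j.opensRange.ι ∧ (φ.Flat → Flat Φ) := by
  have e1 : j.isoOpensRange.hom ≫ j.opensRange.ι = j := j.isoOpensRange_hom_ι
  refine ⟨j.isoOpensRange.inv ≫ toAff φ, ?_, ?_, fun hφ => ?_⟩
  · rw [Category.assoc, toAff_str, h1, ← Category.assoc, j.isoOpensRange_inv_comp]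
  · rw [Scheme.IdealSheafData.comap_comp, ← ker_of_isPullback (isPullback_origin φ ψ hψ h2),
      ker_of_isPullback h, ← Scheme.IdealSheafData.comap_comp, j.isoOpensRange_inv_comp]
  · have := flat_toAff φ hφ
    infer_instance

end

end Groth.Agent.Vancyc.H120.AffChart
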