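import Groth.Agent.Vancyc.H120.ReesFib
import Groth.Agent.CohqB.RelSpec
import Mathlib.AlgebraicGeometry.IdealSheaf.Basic

/-!
# The deformation to the normal cone

For a quasi-coherent ideal sheaf `J` on `X`: `W J ⟶ X`, the relative spectrum of the extended Rees
algebra.
-/

set_option autoImplicit false
universe u

open CategoryTheory CategoryTheory.Limits AlgebraicGeometry Opposite
open AlgebraicGeometry.Scheme.AffineZariskiSite AlgebraicGeometry.Scheme

namespace Groth.Agent.Vancyc.H120.DefSp

open Rees ReesFlat ReesSch ReesFib Groth.Agent.CohqB.RelSpec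

noncomputable section

section Desc

variable {X : Scheme.{u}} {F : X.AffineZariskiSiteᵒᵖ ⥤ CommRingCat.{u}}
  {α : (Scheme.AffineZariskiSite.toOpensFunctor X).op ⋙ X.presheaf ⟶ F} (H : α.Coequifibered)

/-- Morphisms out of a relative spectrum. -/
def desc {T : Scheme.{u}} (g : ∀ U : X.AffineZariskiSite, Spec (F.obj (op U)) ⟶ T)
    (hg : ∀ {U V : X.AffineZariskiSite} (i : U ⟶ V), Spec.map (F.map i.op) ≫ g V = g U) :
    obj H ⟶ T :=
  colimit.desc (relativeGluingData H).functor
    { pt := T
      ι := { app := g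
             naturality := fun U V i => (hg i).trans (Category.comp_id _).symm } }

@[reassoc]
theorem ι_desc {T : Scheme.{u}} (g : ∀ U : X.AffineZariskiSite, Spec (F.obj (op U)) ⟶ T)
    (hg : ∀ {U V : X.AffineZariskiSite} (i : U ⟶ V), Spec.map (F.map i.op) ≫ g V = g U)
    (U : X.AffineZariskiSite) : ι H U ≫ desc H g hg = g U :=
  colimit.ι_desc _ _

theorem hom_ext {T : Scheme.{u}} {f g : obj H ⟶ T} (h : ∀ U, ι H U ≫ f = ι H U ≫ g) : f = g :=
  Scheme.Cover.hom_ext (cover H) _ _ h

end Desc

variable {X : Scheme.{u}} (J : X.IdealSheafData)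

/-- The ideal on a member of the affine Zariski site. -/
def idl (U : X.AffineZariskiSite) : Ideal Γ(X, U.toOpens) := J.ideal ⟨U.toOpens, U.2⟩

/-- Restriction. -/
def resH {U V : X.AffineZariskiSite} (i : U ⟶ V) : Γ(X, V.toOpens) →+* Γ(X, U.toOpens) :=
  (X.presheaf.map (homOfLE (toOpens_mono i.le)).op).hom

theorem resH_id (U : X.AffineZariskiSite) (r : Γ(X, U.toOpens)) : resH (𝟙 U) r = r :=
  congr(($(X.presheaf.map_id (op U.toOpens))).hom r)

theorem resH_comp {U V W : X.AffineZariskiSite} (i : U ⟶ V) (j : V ⟶ W) (r : Γ(X, W.toOpens)) :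
    resH (i ≫ j) r = resH i (resH j r) :=
  congr(($(X.presheaf.map_comp (homOfLE (toOpens_mono j.le)).op
    (homOfLE (toOpens_mono i.le)).op)).hom r)

theorem idl_map {U V : X.AffineZariskiSite} (i : U ⟶ V) :
    (idl J V).map (resH i) = idl J U :=
  J.map_ideal (U := ⟨U.toOpens, U.2⟩) (V := ⟨V.toOpens, V.2⟩) (toOpens_mono i.le)

/-- The extended Rees algebra as a functor. -/
def reesF : X.AffineZariskiSiteᵒᵖ ⥤ CommRingCat.{u} where
  obj U := CommRingCat.of (rees (idl J U.unop))
  map {U V} i := CommRingCat.ofHom (Rees.map (idl J U.unop) (idl J V.unop) (resH i.unop)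
    (idl_map J i.unop).le)
  map_id U := by
    ext1
    refine RingHom.ext fun p => Subtype.ext ?_
    ext n
    change (lmap (resH (𝟙 U.unop)) (p : LaurentPolynomial _)).coeff n = _
    rw [coeff_lmap, resH_id]
    rfl
  map_comp {U V W} i j := by
    ext1
    refine RingHom.ext fun p => Subtype.ext ?_
    ext n
    change (lmap (resH (j.unop ≫ i.unop)) (p : LaurentPolynomial _)).coeff n =
      (lmap (resH j.unop) (lmap (resH i.unop) (p : LaurentPolynomial _))).coeff n
    rw [coeff_lmap, coeff_lmap, coeff_lmap, resH_comp]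

/-- The structure map. -/
def reesα : (toOpensFunctor X).op ⋙ X.presheaf ⟶ reesF J where
  app U := CommRingCat.ofHom (algebraMap Γ(X, U.unop.toOpens) (rees (idl J U.unop)))
  naturality {U V} i := by
    ext1
    refine RingHom.ext fun r => ?_
    exact (map_algebraMap _ _ _ (idl_map J i.unop).le _).symm

theorem isLocalization_map' {B B' : Type u} [CommRing B] [CommRing B'] (I : Ideal B)
    (I' : Ideal B') (f : B) (φ : B →+* B') (hloc : @IsLocalization.Away B _ f B' _ φ.toAlgebra)
    (h : I.map φ = I') :
    @IsLocalization.Away _ _ (algebraMap B (rees I) f) (rees I') _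
      (Rees.map I I' φ h.le).toAlgebra := by
  let _ : Algebra B B' := φ.toAlgebra
  exact isLocalization_map I f B' I' h.symm

theorem coequifibered : (reesα J).Coequifibered := by
  rw [coequifibered_iff_forall_isLocalizationAway]
  intro U f
  exact isLocalization_map' (idl J U) (idl J (U.basicOpen f)) f
    (resH (homOfLE (U.basicOpen_le f)))
    (U.2.isLocalization_basicOpen f) (idl_map J (homOfLE (U.basicOpen_le f)))

/-- The deformation space. -/
def W : Scheme.{u} := obj (coequifibered J)

/-- The projection to `X`. -/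
def toX : W J ⟶ X := toBase (coequifibered J)

/-- The charts. -/
def chart (U : X.AffineZariskiSite) : Spec (CommRingCat.of (rees (idl J U))) ⟶ W J :=
  ι (coequifibered J) U

end

end Groth.Agent.Vancyc.H120.DefSp
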