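import Groth.Agent.Vancyc.H120.DefSp

/-!
# The deformation to the normal cone over the affine line
-/

set_option autoImplicit false
universe u

open CategoryTheory CategoryTheory.Limits AlgebraicGeometry Opposite
open AlgebraicGeometry.Scheme.AffineZariskiSite AlgebraicGeometry.Scheme

namespace Groth.Agent.Vancyc.H120.DefSp

open Rees ReesFlat ReesSch ReesFib Groth.Agent.CohqB.RelSpec

noncomputable section

variable {X : Scheme.{u}} (J : X.IdealSheafData)

instance isAffineHom_toX : IsAffineHom (toX J) := isAffineHom_toBase (coequifibered J)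

instance (U : X.AffineZariskiSite) : IsOpenImmersion (chart J U) :=
  inferInstanceAs (IsOpenImmersion (ι (coequifibered J) U))

@[reassoc]
theorem chart_toX (U : X.AffineZariskiSite) :
    chart J U ≫ toX J =
      Spec.map (CommRingCat.ofHom (algebraMap Γ(X, U.toOpens) (rees (idl J U)))) ≫
        (isAff U).fromSpec :=
  ι_toBase (coequifibered J) U

theorem preimage_toX (U : X.AffineZariskiSite) :
    toX J ⁻¹ᵁ U.toOpens = (chart J U).opensRange := preimage (coequifibered J) U

theorem isPullback_chart (U : X.AffineZariskiSite) :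
    IsPullback (chart J U)
      (Spec.map (CommRingCat.ofHom (algebraMap Γ(X, U.toOpens) (rees (idl J U)))))
      (toX J) (isAff U).fromSpec := isPullback_ι (coequifibered J) U

@[reassoc]
theorem map_chart {U V : X.AffineZariskiSite} (i : U ⟶ V) :
    Spec.map (CommRingCat.ofHom (Rees.map (idl J V) (idl J U) (resH i) (idl_map J i).le)) ≫
      chart J V = chart J U :=
  ι_map (coequifibered J) i

theorem W_hom_ext {T : Scheme.{u}} {f g : W J ⟶ T} (h : ∀ U, chart J U ≫ f = chart J U ≫ g) :
    f = g := hom_ext (coequifibered J) h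

section Base

variable {R : Type u} [CommRing R] (p : X ⟶ Spec (CommRingCat.of R))

/-- The structure map `R → Γ(X, U)` for `U` affine. -/
def rho (U : X.AffineZariskiSite) : R →+* Γ(X, U.toOpens) :=
  (Spec.preimage ((isAff U).fromSpec ≫ p)).hom

@[reassoc]
theorem Spec_rho (U : X.AffineZariskiSite) :
    Spec.map (CommRingCat.ofHom (rho p U)) = (isAff U).fromSpec ≫ p :=
  Spec.map_preimage _

theorem rho_map {U V : X.AffineZariskiSite} (i : U ⟶ V) :
    (resH i).comp (rho p V) = rho p U := by
  have : CommRingCat.ofHom ((resH i).comp (rho p V)) = CommRingCat.ofHom (rho p U) := by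
    apply Spec.map_injective
    rw [CommRingCat.ofHom_comp, Spec.map_comp, Spec_rho, Spec_rho, ← Category.assoc]
    congr 1
    exact IsAffineOpen.map_fromSpec _ _ _
  exact congrArg CommRingCat.Hom.hom this

theorem tRees_map {U V : X.AffineZariskiSite} (i : U ⟶ V) :
    (Rees.map (idl J V) (idl J U) (resH i) (idl_map J i).le).comp (tRees (idl J V) (rho p V)) =
      tRees (idl J U) (rho p U) := by
  apply Polynomial.ringHom_ext
  · intro r
    simp only [tRees, RingHom.comp_apply, Polynomial.coe_eval₂RingHom, Polynomial.eval₂_C]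
    rw [map_algebraMap, ← rho_map p i]
    rfl
  · simp only [tRees, RingHom.comp_apply, Polynomial.coe_eval₂RingHom, Polynomial.eval₂_X]
    rw [map_t]

theorem Spec_tRees_map {U V : X.AffineZariskiSite} (i : U ⟶ V) :
    Spec.map (CommRingCat.ofHom (Rees.map (idl J V) (idl J U) (resH i) (idl_map J i).le)) ≫
      Spec.map (CommRingCat.ofHom (tRees (idl J V) (rho p V))) =
    Spec.map (CommRingCat.ofHom (tRees (idl J U) (rho p U))) := by
  rw [← Spec.map_comp, ← CommRingCat.ofHom_comp, tRees_map]

/-- The parameter `W ⟶ 𝔸¹_R`. -/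
def tW : W J ⟶ Spec (CommRingCat.of (Polynomial R)) :=
  desc (coequifibered J) (fun U => Spec.map (CommRingCat.ofHom (tRees (idl J U) (rho p U))))
    (fun i => Spec_tRees_map J p i)

@[reassoc]
theorem chart_tW (U : X.AffineZariskiSite) :
    chart J U ≫ tW J p = Spec.map (CommRingCat.ofHom (tRees (idl J U) (rho p U))) :=
  ι_desc (coequifibered J) _ (fun i => Spec_tRees_map J p i) U

@[reassoc]
theorem tW_C : tW J p ≫ Spec.map (CommRingCat.ofHom (Polynomial.C : R →+* Polynomial R)) =
    toX J ≫ p := by
  apply W_hom_ext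
  intro U
  rw [chart_tW_assoc, chart_toX_assoc, ← Spec_rho, ← Spec.map_comp, ← Spec.map_comp,
    ← CommRingCat.ofHom_comp, ← CommRingCat.ofHom_comp]
  congr 2
  ext r
  simp [tRees]

/-! ### Smoothness -/

/-- The local condition for smoothness of `W`. -/
def HasChart (d : ℕ) (x : X) : Prop :=
  ∃ U : X.AffineZariskiSite, x ∈ U.toOpens ∧
    ((idl J U = ⊤ ∧ SmoothOfRelativeDimension d (Spec.map (CommRingCat.ofHom (rho p U)))) ∨
      ∃ (n r : ℕ) (_ : r + n = d) (φ : MvPolynomial (Fin n) R →+* Γ(X, U.toOpens)),
        φ.comp MvPolynomial.C = rho p U ∧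
        idl J U = Ideal.span (Set.range fun i => φ (MvPolynomial.X i)) ∧
        SmoothOfRelativeDimension r (Spec.map (CommRingCat.ofHom φ)))

theorem smooth_tW (d : ℕ) (h : ∀ x, HasChart J p d x) :
    SmoothOfRelativeDimension d (tW J p) := by
  choose U hU hx using h
  have h1 : ∀ x, SmoothOfRelativeDimension d (chart J (U x) ≫ tW J p) := by
    intro x
    rw [chart_tW]
    rcases hx x with ⟨h1, h2⟩ | ⟨n, r, rfl, φ, h1, h2, h3⟩
    · exact smooth_rees_top _ d _ h1 h2
    · have := smooth_rees φ (idl J (U x)) h2 r h3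
      rwa [h1] at this
  let 𝒰 : (W J).OpenCover :=
    { I₀ := X
      X := fun x => Spec (CommRingCat.of (rees (idl J (U x))))
      f := fun x => chart J (U x)
      mem₀ := by
        rw [presieve₀_mem_precoverage_iff]
        refine ⟨fun w => ?_, inferInstance⟩
        have : w ∈ toX J ⁻¹ᵁ (U ((toX J).base w)).toOpens := hU _
        rw [preimage_toX] at this
        obtain ⟨y, hy⟩ := this
        exact ⟨_, y, hy⟩ }
  rw [IsZariskiLocalAtSource.iff_of_openCover (P := @SmoothOfRelativeDimension d) 𝒰]
  exact h1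

end Base

end

end Groth.Agent.Vancyc.H120.DefSp
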