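import Groth.Agent.Vancyc.H120.DefSp2
import Groth.Agent.CalgA.TwoGlue

/-!
# Sections of the deformation to the normal cone
-/

set_option autoImplicit false
universe u

open CategoryTheory CategoryTheory.Limits AlgebraicGeometry Opposite
open AlgebraicGeometry.Scheme.AffineZariskiSite AlgebraicGeometry.Scheme

namespace Groth.Agent.Vancyc.H120.DefSp

open Rees ReesFlat ReesSch ReesFib Groth.Agent.CohqB.RelSpec

noncomputable section

section RelSpec

variable {X : Scheme.{u}} {F : X.AffineZariskiSiteᵒᵖ ⥤ CommRingCat.{u}}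
  {α : (Scheme.AffineZariskiSite.toOpensFunctor X).op ⋙ X.presheaf ⟶ F} (H : α.Coequifibered)

/-- Compatibility of `lift` with precomposition. -/
theorem comp_lift {T T' : Scheme.{u}} {g : T ⟶ X} {g' : T' ⟶ X} (d : LiftData α g)
    (d' : LiftData α g') (t : T ⟶ T') (ht : t ≫ g' = g)
    (hd : ∀ (U : X.AffineZariskiSite) (h : g ⁻¹ᵁ U.toOpens ≤ t ⁻¹ᵁ g' ⁻¹ᵁ U.toOpens),
      d'.ψ U ≫ t.appLE (g' ⁻¹ᵁ U.toOpens) (g ⁻¹ᵁ U.toOpens) h = d.ψ U) :
    t ≫ lift H d' = lift H d := by
  refine Scheme.Cover.hom_ext (T.openCoverOfIsOpenCover _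
    (.comap (iSup_affineOpens_eq_top X) g.base.hom)) _ _ fun U ↦ ?_
  let U' : X.AffineZariskiSite := ⟨U.1, U.2⟩
  change (g ⁻¹ᵁ U'.toOpens).ι ≫ t ≫ lift H d' = (g ⁻¹ᵁ U'.toOpens).ι ≫ lift H d
  have h : g ⁻¹ᵁ U'.toOpens ≤ t ⁻¹ᵁ g' ⁻¹ᵁ U'.toOpens := by
    rw [← Scheme.Hom.comp_preimage, ht]
  rw [ι_lift, ← hd U' h, Spec.map_comp, Category.assoc, Scheme.Opens.toSpecΓ_SpecMap_appLE_assoc,
    ← ι_lift]
  rw [← Category.assoc, ← Category.assoc, Scheme.Hom.resLE_comp_ι]

end RelSpec

variable {X : Scheme.{u}} (J : X.IdealSheafData)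

theorem eps_map {B B' : Type u} [CommRing B] [CommRing B'] (I : Ideal B) (I' : Ideal B')
    (φ : B →+* B') (h : I.map φ ≤ I') (q : rees I) :
    eps I' (Rees.map I I' φ h q) = φ (eps I q) := by
  rw [eps_apply, eps_apply, coe_map]
  generalize (q : LaurentPolynomial B) = x
  induction x using LaurentPolynomial.induction_on' with
  | add x y hx hy => rw [map_add, map_add, map_add, map_add, hx, hy]
  | C_mul_T n a =>
    rw [map_mul, lmap_C, lmap_T, LaurentPolynomial.eval₂_C_mul_T, LaurentPolynomial.eval₂_C_mul_T]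
    simp

/-! ### The fibre over `1` -/

/-- The ring maps of the section at `1`. -/
def oneData : LiftData (reesα J) (𝟙 X) where
  ψ U := CommRingCat.ofHom (eps (idl J U))
  nat {U V} i := by
    ext1
    refine RingHom.ext fun q => ?_
    exact eps_map (idl J V) (idl J U) (resH i) (idl_map J i).le q
  comp U := by
    ext1
    refine RingHom.ext fun r => ?_
    exact eps_algebraMap (idl J U) r

/-- The section of `W` at `1`. -/
def one : X ⟶ W J := lift (coequifibered J) (oneData J)

@[reassoc (attr := simp)]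
theorem one_toX : one J ≫ toX J = 𝟙 X := lift_toBase (coequifibered J) (oneData J)

@[reassoc]
theorem ι_one (U : X.AffineZariskiSite) :
    U.toOpens.ι ≫ one J = U.toOpens.toSpecΓ ≫
      Spec.map (CommRingCat.ofHom (eps (idl J U))) ≫ chart J U :=
  ι_lift (coequifibered J) (oneData J) U

theorem isPullback_ι_one (U : X.AffineZariskiSite) :
    IsPullback (U.toOpens.toSpecΓ ≫ Spec.map (CommRingCat.ofHom (eps (idl J U)))) U.toOpens.ι
      (chart J U) (one J) :=
  isPullback_lift (coequifibered J) (oneData J) U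

theorem isPullback_fromSpec_one (U : X.AffineZariskiSite) :
    IsPullback (isAff U).fromSpec (Spec.map (CommRingCat.ofHom (eps (idl J U))))
      (one J) (chart J U) := by
  have h := (isPullback_ι_one J U).flip
  have h1 : IsIso U.toOpens.toSpecΓ := by
    rw [← IsAffineOpen.isoSpec_hom (isAff U)]
    infer_instance
  refine h.of_iso (asIso U.toOpens.toSpecΓ) (Iso.refl _) (Iso.refl _) (Iso.refl _) ?_ ?_ ?_ ?_
  · simp [IsAffineOpen.toSpecΓ_fromSpec]
  · simp
  · simp
  · simp

section Base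

variable {R : Type u} [CommRing R] (p : X ⟶ Spec (CommRingCat.of R))

theorem isPullback_chart_one (U : X.AffineZariskiSite) :
    IsPullback (Spec.map (CommRingCat.ofHom (eps (idl J U)))) ((isAff U).fromSpec ≫ p)
      (chart J U ≫ tW J p) (Spec.map (CommRingCat.ofHom (Polynomial.evalRingHom (1 : R)))) := by
  rw [chart_tW, ← Spec_rho]
  exact ((isPushout_eps (idl J U) (rho p U)).op.map Scheme.Spec).flip

@[reassoc]
theorem one_tW : one J ≫ tW J p =
    p ≫ Spec.map (CommRingCat.ofHom (Polynomial.evalRingHom (1 : R))) := by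
  refine Scheme.Cover.hom_ext (X.openCoverOfIsOpenCover _ (iSup_affineOpens_eq_top X)) _ _
    fun U ↦ ?_
  let U' : X.AffineZariskiSite := ⟨U.1, U.2⟩
  change U'.toOpens.ι ≫ one J ≫ tW J p = U'.toOpens.ι ≫ _
  rw [ι_one_assoc, (isPullback_chart_one J p U').w, ← (isAff U').toSpecΓ_fromSpec]
  simp only [Category.assoc]

/-- The fibre of `W` over `1` is `X`. -/
theorem isPullback_one : IsPullback (one J) p (tW J p)
    (Spec.map (CommRingCat.ofHom (Polynomial.evalRingHom (1 : R)))) := by
  refine CalgA.TwoGlue.isPullback_of_cover (one_tW J p) (cover (coequifibered J))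
    (fun U => Spec (CommRingCat.of Γ(X, U.toOpens))) (fun U => (isAff U).fromSpec)
    (fun U => Spec.map (CommRingCat.ofHom (eps (idl J U)))) ?_ ?_
  · intro U
    exact isPullback_fromSpec_one J U
  · intro U
    exact isPullback_chart_one J p U

end Base

end

end Groth.Agent.Vancyc.H120.DefSp
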