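import Mathlib.RingTheory.Kaehler.Polynomial
import Mathlib.RingTheory.Unramified.Basic
import Mathlib.RingTheory.Finiteness.Nakayama
import Mathlib.RingTheory.Etale.Basic
import Mathlib.RingTheory.Unramified.Finite

/-!
# Local equations of the diagonal of an algebra with etale coordinates
-/

set_option autoImplicit false
universe u v w

open TensorProduct KaehlerDifferential

namespace Groth.Agent.Vancyc.H120.DiagAlg

noncomputable section

variable (R : Type u) (B : Type v) [CommRing R] [CommRing B] [Algebra R B] {ι : Type w}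
  [Algebra (MvPolynomial ι R) B] [IsScalarTower R (MvPolynomial ι R) B]

/-- The function `1 ⊗ b - b ⊗ 1`. -/
def dl (b : B) : B ⊗[R] B := 1 ⊗ₜ b - b ⊗ₜ 1

theorem dl_mem (b : B) : dl R B b ∈ ideal R B := one_smul_sub_smul_one_mem_ideal R b

/-- The coordinates. -/
abbrev co (i : ι) : B := algebraMap (MvPolynomial ι R) B (MvPolynomial.X i)

theorem span_D_eq_top [Algebra.FormallyUnramified (MvPolynomial ι R) B] :
    Submodule.span B (Set.range fun i : ι => D R B (co R B i)) = ⊤ := by
  have h1 : Subsingleton (Ω[B⁄MvPolynomial ι R]) := inferInstance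
  have h2 : LinearMap.range (mapBaseChange R (MvPolynomial ι R) B) = ⊤ := by
    rw [range_mapBaseChange, LinearMap.ker_eq_top]
    ext x
    exact Subsingleton.elim _ _
  rw [eq_top_iff, ← h2]
  rintro _ ⟨x, rfl⟩
  induction x using TensorProduct.induction_on with
  | zero => rw [map_zero]; exact zero_mem _
  | add x y hx hy => rw [map_add]; exact add_mem hx hy
  | tmul b ω =>
    rw [mapBaseChange_tmul]
    refine Submodule.smul_mem _ _ ?_
    have h3 : ω ∈ Submodule.span (MvPolynomial ι R) (Set.range (mvPolynomialBasis R ι)) := by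
      rw [(mvPolynomialBasis R ι).span_eq]; trivial
    induction h3 using Submodule.span_induction with
    | mem x h =>
      obtain ⟨i, rfl⟩ := h
      rw [mvPolynomialBasis_apply, map_D]
      exact Submodule.subset_span ⟨i, rfl⟩
    | zero => rw [map_zero]; exact zero_mem _
    | add x y _ _ hx hy => rw [map_add]; exact add_mem hx hy
    | smul c x _ hx =>
      rw [map_smul, ← algebraMap_smul B c]
      exact Submodule.smul_mem _ _ hx

theorem ideal_le [Algebra.FormallyUnramified (MvPolynomial ι R) B] :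
    ideal R B ≤ Ideal.span (Set.range fun i : ι => dl R B (co R B i)) ⊔ ideal R B ^ 2 := by
  intro a ha
  have key : ∀ ω : Ω[B⁄R], ω ∈ Submodule.span B (Set.range fun i : ι => D R B (co R B i)) →
      ∃ c : ideal R B, (ideal R B).toCotangent c = ω ∧
        (c : B ⊗[R] B) ∈ Ideal.span (Set.range fun i : ι => dl R B (co R B i)) := by
    intro ω hω
    induction hω using Submodule.span_induction with
    | mem x h =>
      obtain ⟨i, rfl⟩ := h
      exact ⟨⟨dl R B (co R B i), dl_mem R B _⟩, rfl, Ideal.subset_span ⟨i, rfl⟩⟩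
    | zero => exact ⟨0, map_zero _, zero_mem _⟩
    | add x y _ _ hx hy =>
      obtain ⟨c, hc, hc'⟩ := hx
      obtain ⟨d, hd, hd'⟩ := hy
      exact ⟨c + d, by rw [map_add, hc, hd]; rfl, add_mem hc' hd'⟩
    | smul b x _ hx =>
      obtain ⟨c, hc, hc'⟩ := hx
      refine ⟨(b ⊗ₜ[R] (1 : B)) • c, ?_, Ideal.mul_mem_left _ _ hc'⟩
      rw [map_smul, hc]
      exact algebraMap_smul (B ⊗[R] B) b x
  obtain ⟨c, hc, hc'⟩ := key ((ideal R B).toCotangent ⟨a, ha⟩)
    (by rw [span_D_eq_top]; trivial)
  rw [Ideal.toCotangent_eq] at hc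
  rw [Submodule.mem_sup]
  refine ⟨c, hc', a - c, ?_, by abel⟩
  have := neg_mem hc
  rwa [neg_sub] at this

/-- Near the diagonal, its ideal is generated by the differences of etale coordinates. -/
theorem exists_g [Algebra.FormallyUnramified (MvPolynomial ι R) B] [Algebra.EssFiniteType R B] :
    ∃ g : B ⊗[R] B, g - 1 ∈ ideal R B ∧ ∀ k ∈ ideal R B, g * k ∈
      Ideal.span (Set.range fun i : ι => dl R B (co R B i)) := by
  set F := Ideal.span (Set.range fun i : ι => dl R B (co R B i)) with hF
  let N : Submodule (B ⊗[R] B) ((B ⊗[R] B) ⧸ F) := Submodule.map F.mkQ (ideal R B)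
  have hfg : N.FG := Submodule.FG.map F.mkQ (KaehlerDifferential.ideal_fg R B)
  have hle : N ≤ ideal R B • N := by
    rintro _ ⟨a, ha, rfl⟩
    have h1 := ideal_le R B (ι := ι) ha
    rw [Submodule.mem_sup] at h1
    obtain ⟨y, hy, z, hz, rfl⟩ := h1
    rw [map_add]
    have h2 : F.mkQ y = 0 := by
      rw [Submodule.mkQ_apply, Submodule.Quotient.mk_eq_zero]; exact hy
    rw [h2, zero_add]
    rw [pow_two] at hz
    have h3 : F.mkQ z ∈ Submodule.map F.mkQ (ideal R B * ideal R B) := ⟨z, hz, rfl⟩
    rw [← smul_eq_mul, Submodule.map_smul''] at h3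
    exact h3
  obtain ⟨g, hg, hg2⟩ := Submodule.exists_sub_one_mem_and_smul_eq_zero_of_fg_of_le_smul
    (ideal R B) N hfg hle
  refine ⟨g, hg, fun k hk => ?_⟩
  have := hg2 _ ⟨k, hk, rfl⟩
  rw [← map_smul, Submodule.mkQ_apply, Submodule.Quotient.mk_eq_zero] at this
  exact this

end

end Groth.Agent.Vancyc.H120.DiagAlg
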