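import Groth.Agent.Vancyc.H120.DefSp2

/-!
# Charts of the deformation space from open immersions of affine schemes
-/

set_option autoImplicit false
universe u

open CategoryTheory CategoryTheory.Limits AlgebraicGeometry Opposite
open AlgebraicGeometry.Scheme.AffineZariskiSite AlgebraicGeometry.Scheme

namespace Groth.Agent.Vancyc.H120.DefSp

open Rees ReesFlat ReesSch ReesFib

noncomputable section

section

variable {X : Scheme.{u}} {C : Type u} [CommRing C] (j : Spec (CommRingCat.of C) ⟶ X)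
  [IsOpenImmersion j]

theorem affU : IsAffineOpen (j ''ᵁ ⊤) :=
  (isAffineOpen_top (Spec (CommRingCat.of C))).image_of_isOpenImmersion j

/-- The image of an affine open immersion. -/
def opU : X.AffineZariskiSite := ⟨j ''ᵁ ⊤, affU j⟩

theorem mem_opU (x : X) : x ∈ (opU j).toOpens ↔ x ∈ j.opensRange := by
  change x ∈ j ''ᵁ ⊤ ↔ _
  rw [Scheme.Hom.image_top_eq_opensRange]

/-- Sections over the image of an affine open immersion. -/
def eta : CommRingCat.of C ≅ Γ(X, j ''ᵁ ⊤) :=
  (Scheme.ΓSpecIso (CommRingCat.of C)).symm ≪≫ (j.appIso ⊤).symm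

theorem Spec_eta : Spec.map (eta j).hom ≫ j = (affU j).fromSpec := by
  have hle : (⊤ : (Spec (CommRingCat.of C)).Opens) ≤ j ⁻¹ᵁ j ''ᵁ ⊤ :=
    (j.preimage_image_eq ⊤).ge
  have h := IsAffineOpen.SpecMap_appLE_fromSpec j (affU j) (isAffineOpen_top _) hle
  rw [IsAffineOpen.fromSpec_top] at h
  have h2 : j.appLE (j ''ᵁ ⊤) ⊤ hle = (j.appIso ⊤).hom := (j.appIso_hom' ⊤).symm
  rw [h2] at h
  have h3 : Spec.map (j.appIso ⊤).inv ≫ Spec.map (j.appIso ⊤).hom = 𝟙 _ := by
    rw [← Spec.map_comp, Iso.hom_inv_id, Spec.map_id]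
  calc Spec.map (eta j).hom ≫ j
      = Spec.map (j.appIso ⊤).inv ≫ Spec.map (ΓSpecIso (CommRingCat.of C)).inv ≫ j := by
        rw [eta, Iso.trans_hom, Iso.symm_hom, Iso.symm_hom, Spec.map_comp, Category.assoc]
    _ = Spec.map (j.appIso ⊤).inv ≫ Spec.map (j.appIso ⊤).hom ≫ (affU j).fromSpec := by
        rw [h, Scheme.isoSpec_Spec_inv]
    _ = _ := by rw [reassoc_of% h3]

variable {R : Type u} [CommRing R] (p : X ⟶ Spec (CommRingCat.of R)) (J : X.IdealSheafData)

theorem hasChart_of_open {n r : ℕ} (φ : MvPolynomial (Fin n) R →+* C)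
    (h1 : Spec.map (CommRingCat.ofHom (φ.comp MvPolynomial.C)) = j ≫ p)
    (h2 : J.ideal ⟨j ''ᵁ ⊤, affU j⟩ =
      (Ideal.span (Set.range fun i => φ (MvPolynomial.X i))).map (eta j).hom.hom)
    (h3 : SmoothOfRelativeDimension r (Spec.map (CommRingCat.ofHom φ)))
    (x : X) (hx : x ∈ j.opensRange) : HasChart J p (r + n) x := by
  refine ⟨opU j, (mem_opU j x).2 hx, Or.inr ⟨n, r, rfl, (eta j).hom.hom.comp φ, ?_, ?_, ?_⟩⟩
  · have h : Spec.map (CommRingCat.ofHom (((eta j).hom.hom.comp φ).comp MvPolynomial.C)) =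
        Spec.map (CommRingCat.ofHom (rho p (opU j))) := by
      rw [Spec_rho, RingHom.comp_assoc, CommRingCat.ofHom_comp, Spec.map_comp, h1,
        CommRingCat.ofHom_hom, ← Category.assoc]
      congr 1
      exact Spec_eta j
    exact congrArg CommRingCat.Hom.hom (Spec.map_injective h)
  · refine h2.trans ?_
    rw [Ideal.map_span, ← Set.range_comp]
    rfl
  · have h4 : SmoothOfRelativeDimension r
        (Spec.map (CommRingCat.ofHom φ ≫ (eta j).hom)) := by
      rw [Spec.map_comp]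
      have : IsIso (Spec.map (eta j).hom) := inferInstance
      rw [MorphismProperty.cancel_left_of_respectsIso (P := @SmoothOfRelativeDimension r)]
      exact h3
    exact h4

theorem hasChart_of_top {d : ℕ} (x : X) (U : X.AffineZariskiSite) (hx : x ∈ U.toOpens)
    (hU : idl J U = ⊤) (h : SmoothOfRelativeDimension d p) : HasChart J p d x := by
  refine ⟨U, hx, Or.inl ⟨hU, ?_⟩⟩
  rw [Spec_rho]
  have h2 : SmoothOfRelativeDimension (0 + d) ((CohqB.RelSpec.isAff U).fromSpec ≫ p) :=
    inferInstance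
  rwa [zero_add] at h2

end

section Pull

variable {X Y : Scheme.{u}} {C D : Type u} [CommRing C] [CommRing D]
  (j : Spec (CommRingCat.of C) ⟶ X) [IsOpenImmersion j] (f : Y ⟶ X) [QuasiCompact f]
  (ψ : C →+* D) (k : Spec (CommRingCat.of D) ⟶ Y)

theorem ideal_of_isPullback (h : IsPullback (Spec.map (CommRingCat.ofHom ψ)) k j f) :
    f.ker.ideal ⟨j ''ᵁ ⊤, affU j⟩ = (RingHom.ker ψ).map (eta j).hom.hom := by
  have h1 := ker_ideal_of_isPullback_of_isOpenImmersion f
    (Spec.map (CommRingCat.ofHom ψ)) k j h ⟨⊤, isAffineOpen_top _⟩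
  have hbij : Function.Bijective (eta j).hom.hom := ConcreteCategory.bijective_of_isIso (eta j).hom
  apply le_antisymm
  · intro a ha
    obtain ⟨c, rfl⟩ := hbij.2 a
    apply Ideal.mem_map_of_mem
    have h2 : (ΓSpecIso (CommRingCat.of C)).inv.hom c ∈
        (Spec.map (CommRingCat.ofHom ψ)).ker.ideal ⟨⊤, isAffineOpen_top _⟩ := by
      rw [h1]
      exact ha
    have h3 := Scheme.Hom.ideal_ker_le _ _ h2
    rw [RingHom.mem_ker] at h3 ⊢
    have h4 : (Spec.map (CommRingCat.ofHom ψ)).app ⊤ = (Spec.map (CommRingCat.ofHom ψ)).appTop := rfl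
    have h5 := Scheme.ΓSpecIso_inv_naturality (CommRingCat.ofHom ψ)
    have h6 : (ΓSpecIso (CommRingCat.of D)).inv.hom (ψ c) = 0 := by
      have := congr(($h5).hom c)
      exact this.trans h3
    have h7 := congrArg (ΓSpecIso (CommRingCat.of D)).hom.hom h6
    rw [map_zero] at h7
    have h8 : (ΓSpecIso (CommRingCat.of D)).hom.hom ((ΓSpecIso (CommRingCat.of D)).inv.hom (ψ c)) =
        ψ c := by
      have := congr(($((ΓSpecIso (CommRingCat.of D)).inv_hom_id)).hom (ψ c))
      exact this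
    rw [← h8, h7]
  · rw [Ideal.map_le_iff_le_comap]
    intro c hc
    have h2 : (ΓSpecIso (CommRingCat.of C)).inv.hom c ∈
        (Spec.map (CommRingCat.ofHom ψ)).ker.ideal ⟨⊤, isAffineOpen_top _⟩ := by
      rw [Scheme.Hom.ker_apply, RingHom.mem_ker]
      have h5 := Scheme.ΓSpecIso_inv_naturality (CommRingCat.ofHom ψ)
      have := congr(($h5).hom c)
      refine this.symm.trans ?_
      change (ΓSpecIso (CommRingCat.of D)).inv.hom (ψ c) = 0
      rw [RingHom.mem_ker.1 hc, map_zero]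
    rw [h1] at h2
    exact h2

end Pull

end

end Groth.Agent.Vancyc.H120.DefSp
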