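import Groth.Agent.Vancyc.H120.DiagSmooth
import Groth.Agent.Vancyc.H120.OpenChart
import Mathlib.AlgebraicGeometry.Morphisms.Etale
import Mathlib.AlgebraicGeometry.Morphisms.Separated
import Mathlib.RingTheory.Etale.Basic

/-!
# Charts of the deformation space of the diagonal
-/

set_option autoImplicit false
universe u

open CategoryTheory CategoryTheory.Limits AlgebraicGeometry TensorProduct

namespace Groth.Agent.Vancyc.H120.DiagChart

open DiagAlg DiagSmooth DefSp

noncomputable section

/-! ### Coordinates -/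

section Coord

variable {R : Type u} [CommRing R] {Y : Scheme.{u}} (q : Y ⟶ Spec (CommRingCat.of R)) (m : ℕ)

theorem etale_map {A : Type u} [CommRing A] (i : R →+* A)
    (hi : IsOpenImmersion (Spec.map (CommRingCat.ofHom i))) :
    Etale (Spec.map (CommRingCat.ofHom
      (MvPolynomial.map i : MvPolynomial (Fin m) R →+* MvPolynomial (Fin m) A))) := by
  let _ : Algebra R A := i.toAlgebra
  have h := (isPushout_map R A m).op.map Scheme.Spec
  have : Etale (Spec.map (CommRingCat.ofHom i)) := inferInstance
  exact MorphismProperty.of_isPullback h this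

theorem exists_coords [SmoothOfRelativeDimension m q] (y : Y) :
    ∃ (B : Type u) (_ : CommRing B) (k : Spec (CommRingCat.of B) ⟶ Y) (_ : IsOpenImmersion k)
      (φ : MvPolynomial (Fin m) R →+* B), y ∈ k.opensRange ∧
        Spec.map (CommRingCat.ofHom (φ.comp MvPolynomial.C)) = k ≫ q ∧
        Etale (Spec.map (CommRingCat.ofHom φ)) := by
  obtain ⟨U, hU, V, hV, hy, e, h⟩ :=
    SmoothOfRelativeDimension.exists_isStandardSmoothOfRelativeDimension (n := m) (f := q) y
  obtain ⟨g, hg1, hg2⟩ := h.exists_etale_mvPolynomial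
  let i : R →+* Γ(Spec (CommRingCat.of R), U) := (Spec.preimage hU.fromSpec).hom
  have hi : Spec.map (CommRingCat.ofHom i) = hU.fromSpec := Spec.map_preimage _
  refine ⟨Γ(Y, V), inferInstance, hV.fromSpec, inferInstance, g.comp (MvPolynomial.map i),
    ?_, ?_, ?_⟩
  · rw [hV.opensRange_fromSpec]; exact hy
  · have h1 : (g.comp (MvPolynomial.map i)).comp MvPolynomial.C = (q.appLE U V e).hom.comp i := by
      ext r
      rw [← hg1]
      simp
    rw [h1, CommRingCat.ofHom_comp, Spec.map_comp, hi, CommRingCat.ofHom_hom,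
      IsAffineOpen.SpecMap_appLE_fromSpec]
  · rw [CommRingCat.ofHom_comp, Spec.map_comp]
    have h1 : Etale (Spec.map (CommRingCat.ofHom
      (MvPolynomial.map i : MvPolynomial (Fin m) R →+* _))) :=
      etale_map m i (by rw [hi]; infer_instance)
    have h2 : Etale (Spec.map (CommRingCat.ofHom g)) := by
      rw [HasRingHomProperty.Spec_iff (P := @Etale)]
      exact hg2
    infer_instance

end Coord

/-! ### The square of an open affine -/

section Sq

variable {R : Type u} [CommRing R] {Y : Scheme.{u}} (q : Y ⟶ Spec (CommRingCat.of R))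
  {B : Type u} [CommRing B] [Algebra R B] (k : Spec (CommRingCat.of B) ⟶ Y)
  (hk : k ≫ q = Spec.map (CommRingCat.ofHom (algebraMap R B)))

/-- The square of an open affine. -/
def sq : Spec (CommRingCat.of (B ⊗[R] B)) ⟶ pullback q q :=
  (pullbackSpecIso R B B).inv ≫ pullback.map _ _ _ _ k k (𝟙 _)
    ((Category.comp_id _).trans hk.symm) ((Category.comp_id _).trans hk.symm)

instance isOpenImmersion_sq [IsOpenImmersion k] : IsOpenImmersion (sq q k hk) := by
  unfold sq
  infer_instance

@[reassoc]
theorem sq_fst : sq q k hk ≫ pullback.fst q q =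
    Spec.map (CommRingCat.ofHom (Algebra.TensorProduct.includeLeftRingHom : B →+* B ⊗[R] B)) ≫
      k := by
  rw [sq, Category.assoc, pullback.lift_fst, pullbackSpecIso_inv_fst_assoc]

@[reassoc]
theorem sq_snd : sq q k hk ≫ pullback.snd q q =
    Spec.map (CommRingCat.ofHom (Algebra.TensorProduct.includeRight : B →ₐ[R] B ⊗[R] B).toRingHom) ≫
      k := by
  rw [sq, Category.assoc, pullback.lift_snd, pullbackSpecIso_inv_snd_assoc]
  rfl

/-- Multiplication. -/
abbrev mulR (R B : Type u) [CommRing R] [CommRing B] [Algebra R B] : B ⊗[R] B →+* B :=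
  (Algebra.TensorProduct.lmul' R : B ⊗[R] B →ₐ[R] B).toRingHom

theorem mul_left : Spec.map (CommRingCat.ofHom (mulR R B)) ≫
    Spec.map (CommRingCat.ofHom (Algebra.TensorProduct.includeLeftRingHom : B →+* B ⊗[R] B)) =
      𝟙 _ := by
  rw [← Spec.map_comp, ← Spec.map_id, ← CommRingCat.ofHom_comp]
  congr 1
  ext x
  simp

theorem mul_right : Spec.map (CommRingCat.ofHom (mulR R B)) ≫
    Spec.map (CommRingCat.ofHom
      (Algebra.TensorProduct.includeRight : B →ₐ[R] B ⊗[R] B).toRingHom) = 𝟙 _ := by
  rw [← Spec.map_comp, ← Spec.map_id, ← CommRingCat.ofHom_comp]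
  congr 1
  ext x
  simp

theorem spec_tensor_ext {T : Scheme.{u}} {a b : T ⟶ Spec (CommRingCat.of (B ⊗[R] B))}
    (h1 : a ≫ Spec.map (CommRingCat.ofHom
      (Algebra.TensorProduct.includeLeftRingHom : B →+* B ⊗[R] B)) = b ≫ Spec.map
        (CommRingCat.ofHom (Algebra.TensorProduct.includeLeftRingHom : B →+* B ⊗[R] B)))
    (h2 : a ≫ Spec.map (CommRingCat.ofHom
      (Algebra.TensorProduct.includeRight : B →ₐ[R] B ⊗[R] B).toRingHom) = b ≫ Spec.map
        (CommRingCat.ofHom
          (Algebra.TensorProduct.includeRight : B →ₐ[R] B ⊗[R] B).toRingHom)) : a = b := by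
  rw [← cancel_mono (pullbackSpecIso R B B).inv]
  apply pullback.hom_ext
  · simpa using h1
  · simpa using h2

theorem isPullback_sq [IsOpenImmersion k] :
    IsPullback (Spec.map (CommRingCat.ofHom (mulR R B))) k (sq q k hk) (pullback.diagonal q) := by
  refine ⟨⟨?_⟩, ⟨PullbackCone.IsLimit.mk _ (fun s => s.fst ≫ Spec.map (CommRingCat.ofHom
      (Algebra.TensorProduct.includeLeftRingHom : B →+* B ⊗[R] B))) ?_ ?_ ?_⟩⟩
  · apply pullback.hom_ext
    · rw [Category.assoc, Category.assoc, sq_fst, pullback.diagonal_fst, Category.comp_id,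
        ← Category.assoc, mul_left, Category.id_comp]
    · rw [Category.assoc, Category.assoc, sq_snd, pullback.diagonal_snd, Category.comp_id,
        ← Category.assoc, mul_right, Category.id_comp]
  · intro s
    have hl : s.fst ≫ Spec.map (CommRingCat.ofHom
        (Algebra.TensorProduct.includeLeftRingHom : B →+* B ⊗[R] B)) ≫ k = s.snd := by
      rw [← sq_fst q k hk, ← Category.assoc, s.condition, Category.assoc, pullback.diagonal_fst,
        Category.comp_id]
    have hr : s.fst ≫ Spec.map (CommRingCat.ofHom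
        (Algebra.TensorProduct.includeRight : B →ₐ[R] B ⊗[R] B).toRingHom) ≫ k = s.snd := by
      rw [← sq_snd q k hk, ← Category.assoc, s.condition, Category.assoc, pullback.diagonal_snd,
        Category.comp_id]
    have he : s.fst ≫ Spec.map (CommRingCat.ofHom
        (Algebra.TensorProduct.includeLeftRingHom : B →+* B ⊗[R] B)) =
        s.fst ≫ Spec.map (CommRingCat.ofHom
        (Algebra.TensorProduct.includeRight : B →ₐ[R] B ⊗[R] B).toRingHom) := by
      rw [← cancel_mono k, Category.assoc, Category.assoc, hl, hr]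
    apply spec_tensor_ext
    · rw [Category.assoc, Category.assoc, mul_left, Category.comp_id]
    · rw [Category.assoc, Category.assoc, mul_right, Category.comp_id, he]
  · intro s
    rw [Category.assoc, ← sq_fst q k hk, ← Category.assoc, s.condition, Category.assoc,
      pullback.diagonal_fst, Category.comp_id]
  · intro s l hl1 hl2
    rw [← hl1, Category.assoc, mul_left, Category.comp_id]

theorem sq_base : sq q k hk ≫ pullback.fst q q ≫ q =
    Spec.map (CommRingCat.ofHom (algebraMap R (B ⊗[R] B))) := by
  rw [sq_fst_assoc, hk, ← Spec.map_comp, ← CommRingCat.ofHom_comp]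

end Sq

end

end Groth.Agent.Vancyc.H120.DiagChart
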