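import Groth.Agent.Vancyc.H120.DiagChart

/-!
# Smoothness of the deformation space of the diagonal
-/

set_option autoImplicit false
universe u

open CategoryTheory CategoryTheory.Limits AlgebraicGeometry TensorProduct

namespace Groth.Agent.Vancyc.H120.DiagChart

open DiagAlg DiagSmooth DefSp

noncomputable section

section Loc

variable {S B : Type u} [CommRing S] [CommRing B] (μ : S →+* B) (g : S) (hg : μ g = 1)

/-- The extension to a localization. -/
def psi : Localization.Away g →+* B :=
  IsLocalization.Away.lift (S := Localization.Away g) (g := μ) g (by rw [hg]; exact isUnit_one)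

theorem psi_algebraMap (s : S) : psi μ g hg (algebraMap S (Localization.Away g) s) = μ s :=
  IsLocalization.Away.lift_eq _ _ _

theorem psi_comp : (psi μ g hg).comp (algebraMap S (Localization.Away g)) = μ :=
  RingHom.ext (psi_algebraMap μ g hg)

theorem isPullback_loc : IsPullback (Spec.map (CommRingCat.ofHom (psi μ g hg)))
    (𝟙 (Spec (CommRingCat.of B)))
    (Spec.map (CommRingCat.ofHom (algebraMap S (Localization.Away g))))
    (Spec.map (CommRingCat.ofHom μ)) := by
  have hc : Spec.map (CommRingCat.ofHom (psi μ g hg)) ≫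
      Spec.map (CommRingCat.ofHom (algebraMap S (Localization.Away g))) =
      Spec.map (CommRingCat.ofHom μ) := by
    rw [← Spec.map_comp, ← CommRingCat.ofHom_comp, psi_comp]
  have hm : IsOpenImmersion (Spec.map (CommRingCat.ofHom (algebraMap S (Localization.Away g)))) :=
    IsOpenImmersion.of_isLocalization g
  refine ⟨⟨by rw [hc, Category.id_comp]⟩, ⟨PullbackCone.IsLimit.mk _ (fun s => s.snd) ?_ ?_ ?_⟩⟩
  · intro s
    rw [← cancel_mono (Spec.map (CommRingCat.ofHom (algebraMap S (Localization.Away g)))),
      Category.assoc, hc, s.condition]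
  · intro s
    rw [Category.comp_id]
  · intro s l _ hl2
    rw [← hl2, Category.comp_id]

theorem ker_psi {ι : Type*} (d : ι → S) (hd : ∀ i, μ (d i) = 0)
    (h : ∀ k, μ k = 0 → g * k ∈ Ideal.span (Set.range d)) :
    RingHom.ker (psi μ g hg) =
      Ideal.span (Set.range fun i => algebraMap S (Localization.Away g) (d i)) := by
  apply le_antisymm
  · intro c hc
    obtain ⟨⟨s, _, n, rfl⟩, hs⟩ := IsLocalization.surj (Submonoid.powers g) c
    dsimp only at hs
    have h1 : μ s = 0 := by
      rw [← psi_algebraMap μ g hg, ← hs, map_mul, (RingHom.mem_ker).1 hc, zero_mul]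
    have h2 : algebraMap S (Localization.Away g) (g * s) ∈
        Ideal.span (Set.range fun i => algebraMap S (Localization.Away g) (d i)) := by
      have := Ideal.mem_map_of_mem (algebraMap S (Localization.Away g)) (h s h1)
      rwa [Ideal.map_span, ← Set.range_comp] at this
    have h3 : IsUnit (algebraMap S (Localization.Away g) g) :=
      IsLocalization.Away.algebraMap_isUnit g
    rw [map_mul, ← hs] at h2
    have h4 := (Ideal.unit_mul_mem_iff_mem _ h3).1 h2
    rw [mul_comm] at h4
    refine (Ideal.unit_mul_mem_iff_mem _ ?_).1 h4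
    change IsUnit (algebraMap S (Localization.Away g) (g ^ n))
    rw [map_pow]
    exact h3.pow n
  · rw [Ideal.span_le]
    rintro _ ⟨i, rfl⟩
    change _ = _
    rw [psi_algebraMap, hd]

end Loc

section Main

variable {R : Type u} [CommRing R] {Y : Scheme.{u}} (q : Y ⟶ Spec (CommRingCat.of R)) (m : ℕ)

theorem hasChart_aux [IsSeparated q] {B : Type u} [CommRing B] [Algebra R B]
    [Algebra (MvPolynomial (Fin m) R) B] [IsScalarTower R (MvPolynomial (Fin m) R) B]
    (he : Etale (Spec.map (CommRingCat.ofHom (algebraMap (MvPolynomial (Fin m) R) B))))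
    (k : Spec (CommRingCat.of B) ⟶ Y) [IsOpenImmersion k]
    (hk : k ≫ q = Spec.map (CommRingCat.ofHom (algebraMap R B))) (y : Y)
    (hy : y ∈ k.opensRange) :
    HasChart (pullback.diagonal q).ker (pullback.fst q q ≫ q) (m + m)
      ((pullback.diagonal q).base y) := by
  have he' : (algebraMap (MvPolynomial (Fin m) R) B).Etale :=
    (HasRingHomProperty.Spec_iff (P := @Etale)).1 he
  rw [RingHom.etale_algebraMap] at he'
  have : Algebra.FormallyUnramified (MvPolynomial (Fin m) R) B := inferInstance
  have : Algebra.EssFiniteType R B := by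
    have : Algebra.EssFiniteType (MvPolynomial (Fin m) R) B := inferInstance
    exact Algebra.EssFiniteType.comp R (MvPolynomial (Fin m) R) B
  obtain ⟨g, hg1, hg2⟩ := exists_g R B (ι := Fin m)
  have hmem : ∀ s : B ⊗[R] B, mulR R B s = 0 → s ∈ KaehlerDifferential.ideal R B := fun s hs => hs
  have hmem' : ∀ s : B ⊗[R] B, s ∈ KaehlerDifferential.ideal R B → mulR R B s = 0 := fun s hs => hs
  have hg : mulR R B g = 1 := by
    have := hmem' _ hg1
    rwa [map_sub, map_one, sub_eq_zero] at this
  let j : Spec (CommRingCat.of (Localization.Away g)) ⟶ Spec (CommRingCat.of (B ⊗[R] B)) :=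
    Spec.map (CommRingCat.ofHom (algebraMap (B ⊗[R] B) (Localization.Away g)))
  have hj : IsOpenImmersion j := IsOpenImmersion.of_isLocalization g
  have hpb : IsPullback (Spec.map (CommRingCat.ofHom (psi (mulR R B) g hg))) (𝟙 _ ≫ k)
      (j ≫ sq q k hk) (pullback.diagonal q) :=
    (isPullback_loc (mulR R B) g hg).paste_vert (isPullback_sq q k hk)
  rw [Category.id_comp] at hpb
  refine hasChart_of_open (j ≫ sq q k hk) _ _
    ((algebraMap (B ⊗[R] B) (Localization.Away g)).comp (del R B (n := m))) ?_ ?_ ?_ _ ?_
  · have h1 : ((algebraMap (B ⊗[R] B) (Localization.Away g)).comp (del R B (n := m))).comp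
        MvPolynomial.C = (algebraMap (B ⊗[R] B) (Localization.Away g)).comp
          (algebraMap R (B ⊗[R] B)) := by
      ext r
      simp only [RingHom.comp_apply]
      rw [del_C]
    rw [h1, CommRingCat.ofHom_comp, Spec.map_comp, Category.assoc, sq_base]
  · rw [ideal_of_isPullback (j ≫ sq q k hk) (pullback.diagonal q) _ k hpb,
      ker_psi (mulR R B) g hg (fun i : Fin m => dl R B (co R B i))
        (fun i => hmem' _ (dl_mem R B _)) (fun s hs => hg2 s (hmem s hs))]
    have h2 : (fun i : Fin m => algebraMap (B ⊗[R] B) (Localization.Away g)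
        (dl R B (co R B i))) = fun i => ((algebraMap (B ⊗[R] B) (Localization.Away g)).comp
          (del R B (n := m))) (MvPolynomial.X i) := by
      funext i
      rw [RingHom.comp_apply, del_X]
    rw [h2]
  · rw [CommRingCat.ofHom_comp, Spec.map_comp]
    have h0 : SmoothOfRelativeDimension m (Spec.map (CommRingCat.ofHom (del R B (n := m)))) :=
      smooth_del R B ((Etale.iff_smoothOfRelativeDimension_zero _).1 he)
    have h1 : SmoothOfRelativeDimension (0 + m)
        (j ≫ Spec.map (CommRingCat.ofHom (del R B (n := m)))) := inferInstance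
    rwa [zero_add] at h1
  · obtain ⟨b, hb⟩ := hy
    refine ⟨(Spec.map (CommRingCat.ofHom (psi (mulR R B) g hg))).base b, ?_⟩
    rw [← hb]
    exact congr($(hpb.w).base b)

/-- Charts around points of the diagonal. -/
theorem hasChart_diagonal [IsSeparated q] [SmoothOfRelativeDimension m q] (y : Y) :
    HasChart (pullback.diagonal q).ker (pullback.fst q q ≫ q) (m + m)
      ((pullback.diagonal q).base y) := by
  obtain ⟨B, _, k, _, φ, hy, h1, h2⟩ := exists_coords q m y
  let _ : Algebra (MvPolynomial (Fin m) R) B := φ.toAlgebra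
  let _ : Algebra R B := (φ.comp MvPolynomial.C).toAlgebra
  have : IsScalarTower R (MvPolynomial (Fin m) R) B := IsScalarTower.of_algebraMap_eq' rfl
  exact hasChart_aux q m h2 k h1.symm y hy

theorem smooth_base [SmoothOfRelativeDimension m q] :
    SmoothOfRelativeDimension (m + m) (pullback.fst q q ≫ q) := by
  have := smoothOfRelativeDimension_isStableUnderBaseChange (n := m)
  have h : SmoothOfRelativeDimension m (pullback.fst q q) :=
    MorphismProperty.pullback_fst _ _ ‹_›
  infer_instance

/-- Charts everywhere. -/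
theorem hasChart [IsSeparated q] [SmoothOfRelativeDimension m q] (x : (pullback q q : Scheme)) :
    HasChart (pullback.diagonal q).ker (pullback.fst q q ≫ q) (m + m) x := by
  by_cases hx : x ∈ Set.range (pullback.diagonal q).base
  · obtain ⟨y, rfl⟩ := hx
    exact hasChart_diagonal q m y
  · have hcl : IsClosed (Set.range (pullback.diagonal q).base) :=
      (pullback.diagonal q).isClosedEmbedding.isClosed_range
    obtain ⟨_, ⟨U, hU, rfl⟩, hxU, hle⟩ :=
      (pullback q q).isBasis_affineOpens.exists_subset_of_mem_open hx hcl.isOpen_compl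
    refine hasChart_of_top _ _ x ⟨U, hU⟩ hxU ?_ (smooth_base q m)
    have h1 : (pullback.diagonal q) ⁻¹ᵁ U = ⊥ := by
      rw [eq_bot_iff]
      intro y hy
      exact (hle hy ⟨y, rfl⟩).elim
    change (pullback.diagonal q).ker.ideal ⟨U, hU⟩ = ⊤
    rw [Scheme.Hom.ker_apply, eq_top_iff]
    intro a _
    have h2 : Subsingleton Γ(Y, (pullback.diagonal q) ⁻¹ᵁ U) := by
      rw [h1]
      infer_instance
    exact Subsingleton.elim _ _

theorem smooth_W [IsSeparated q] [SmoothOfRelativeDimension m q] :
    SmoothOfRelativeDimension (m + m)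
      (tW (pullback.diagonal q).ker (pullback.fst q q ≫ q)) :=
  smooth_tW _ _ _ (hasChart q m)

end Main

end

end Groth.Agent.Vancyc.H120.DiagChart
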