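import Groth.Agent.Vancyc.H120.PairChart
import Groth.Agent.Vancyc.H120.DiagChart2
import Groth.Agent.Vancyc.H691.Squares

/-!
# The smooth pairs of the deformation of the diagonal
-/

set_option autoImplicit false
universe u

open CategoryTheory CategoryTheory.Limits AlgebraicGeometry

namespace Groth.Agent.Vancyc.H120.DiagInst

open Groth.Agent.Sga4h.H13 DefSp Groth.Agent.Vancyc.H691.Squares Groth.Agent.Vancyc.H691.SpecFib

noncomputable section

section Ring

variable {R : Type u} [CommRing R] {Y : Scheme.{u}} (q : Y ⟶ Spec (CommRingCat.of R)) (m : ℕ)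

/-- The structure morphism of `Y ×_R Y`. -/
abbrev pp : pullback q q ⟶ Spec (CommRingCat.of R) := pullback.fst q q ≫ q

/-- The diagonal. -/
abbrev dg : Y ⟶ pullback q q := pullback.diagonal q

@[reassoc (attr := simp)]
theorem dg_pp : dg q ≫ pp q = q := by
  rw [pullback.diagonal_fst_assoc]

theorem smooth_dg_pp [h : SmoothOfRelativeDimension m q] :
    SmoothOfRelativeDimension m (dg q ≫ pp q) := by
  rw [dg_pp]
  exact h

/-- `Y × 𝔸¹ ⟶ 𝔸¹` is smooth. -/
theorem smooth_co [SmoothOfRelativeDimension m q] :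
    SmoothOfRelativeDimension m (co (dg q) (pp q)) := by
  have := smoothOfRelativeDimension_isStableUnderBaseChange (n := m)
  exact MorphismProperty.pullback_snd _ _ (smooth_dg_pp q m)

theorem smooth_ζ_tW [SmoothOfRelativeDimension m q] :
    SmoothOfRelativeDimension m (ζ (dg q) (pp q) ≫ tW (dg q).ker (pp q)) := by
  rw [ζ_tW]
  exact smooth_co q m

variable [IsSeparated q]

/-- `W ⟶ 𝔸¹` is smooth. -/
theorem smooth_tW [SmoothOfRelativeDimension m q] :
    SmoothOfRelativeDimension (m + m) (tW (dg q).ker (pp q)) :=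
  DiagChart.smooth_W q m

/-- `W₀ ⟶ Spec R` is smooth. -/
theorem smooth_W0 [SmoothOfRelativeDimension m q] :
    SmoothOfRelativeDimension (m + m) (pullback.snd (tW (dg q).ker (pp q)) (pt R 0)) := by
  have := smoothOfRelativeDimension_isStableUnderBaseChange (n := m + m)
  exact MorphismProperty.pullback_snd _ _ (smooth_tW q m)

theorem smooth_toX [SmoothOfRelativeDimension m q] : Smooth (toX (dg q).ker ≫ pp q) := by
  rw [← tW_C]
  have h1 := smooth_tW q m
  have h2 : Smooth (tW (dg q).ker (pp q)) := h1.smooth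
  have h3 : Smooth (Spec.map (CommRingCat.ofHom (Polynomial.C : R →+* Polynomial R))) := by
    rw [HasRingHomProperty.Spec_iff (P := @Smooth)]
    change (algebraMap R (Polynomial R)).Smooth
    rw [RingHom.smooth_algebraMap]
    have h4 : Algebra.Smooth R (MvPolynomial PUnit.{1} R) :=
      { formallySmooth := inferInstance
        finitePresentation := inferInstance }
    exact Algebra.Smooth.of_equiv (MvPolynomial.uniqueAlgEquiv R PUnit.{1})
  infer_instance

instance isClosedImmersion_s0 : IsClosedImmersion (s0 (dg q) (pp q)) :=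
  MorphismProperty.of_isPullback (isPullback_zero' (dg q) (pp q))
    (isClosedImmersion_ζ (dg q) (pp q))

omit [IsSeparated q] in
theorem s0_snd : s0 (dg q) (pp q) ≫ pullback.snd (tW (dg q).ker (pp q)) (pt R 0) =
    dg q ≫ pp q := pullback.lift_snd _ _ _

omit [IsSeparated q] in
theorem j0_toX_pp : j0 (dg q) (pp q) ≫ toX (dg q).ker ≫ pp q =
    pullback.snd (tW (dg q).ker (pp q)) (pt R 0) := by
  rw [← tW_C, ← Category.assoc, show j0 (dg q) (pp q) ≫ tW (dg q).ker (pp q) =
    pullback.snd (tW (dg q).ker (pp q)) (pt R 0) ≫ pt R 0 from pullback.condition,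
    Category.assoc, pt_C, Category.comp_id]

end Ring

section Field

variable {k : Type u} [Field k] {Y : Scheme.{u}} (q : Y ⟶ Spec (CommRingCat.of k)) (m : ℕ)
  [IsSeparated q] [SmoothOfRelativeDimension m q]

/-- Charts of the diagonal. -/
theorem exists_chart_dg (z : Y) :
    ∃ (U : (pullback q q : Scheme.{u}).Opens) (Φ : U.toScheme ⟶ Aff k m), IsAffineOpen U ∧
      dg q z ∈ U ∧ Φ ≫ Aff.str k m = U.ι ≫ pp q ∧
      (origin k m).ker.comap Φ = (dg q).ker.comap U.ι ∧ Flat Φ := by
  have h1 : SmoothOfRelativeDimension (m + m) (pp q) := DiagChart.smooth_base q m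
  have h2 := smooth_dg_pp q m
  exact PairChart.exists_chart (pp q) (pp q) (𝟙 _) (Category.comp_id _) (dg q) m m z

/-- Charts of the family of zero sections. -/
theorem exists_chart_ζ (z : ZA (dg q) (pp q)) :
    ∃ (U : (W (dg q).ker).Opens) (Φ : U.toScheme ⟶ Aff k m), IsAffineOpen U ∧
      ζ (dg q) (pp q) z ∈ U ∧ Φ ≫ Aff.str k m = U.ι ≫ toX (dg q).ker ≫ pp q ∧
      (origin k m).ker.comap Φ = (ζ (dg q) (pp q)).ker.comap U.ι ∧ Flat Φ := by
  have h1 := smooth_tW q m
  have h2 := smooth_ζ_tW q m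
  exact PairChart.exists_chart (toX (dg q).ker ≫ pp q) (tW (dg q).ker (pp q)) _
    (tW_C _ _) (ζ (dg q) (pp q)) m m z

/-- Charts of the zero section of the special fibre. -/
theorem exists_chart_s0 (z : Y) :
    ∃ (U : (W0 (dg q) (pp q)).Opens) (Φ : U.toScheme ⟶ Aff k m), IsAffineOpen U ∧
      s0 (dg q) (pp q) z ∈ U ∧
      Φ ≫ Aff.str k m = U.ι ≫ pullback.snd (tW (dg q).ker (pp q)) (pt k 0) ∧
      (origin k m).ker.comap Φ = (s0 (dg q) (pp q)).ker.comap U.ι ∧ Flat Φ := by
  have h1 := smooth_W0 q m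
  have h2 : SmoothOfRelativeDimension m
      (s0 (dg q) (pp q) ≫ pullback.snd (tW (dg q).ker (pp q)) (pt k 0)) := by
    rw [s0_snd]
    exact smooth_dg_pp q m
  exact PairChart.exists_chart (pullback.snd (tW (dg q).ker (pp q)) (pt k 0))
    (pullback.snd (tW (dg q).ker (pp q)) (pt k 0)) (𝟙 _) (Category.comp_id _)
    (s0 (dg q) (pp q)) m m z

end Field

end

end Groth.Agent.Vancyc.H120.DiagInst
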