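import Groth.Agent.Vancyc.H120.DiagAlg
import Groth.Agent.FlatB.AffSpaceSmooth
import Mathlib.AlgebraicGeometry.Morphisms.Smooth
import Mathlib.Algebra.Category.Ring.Constructions
import Mathlib.RingTheory.TensorProduct.MvPolynomial

/-!
# The differences of etale coordinates define a smooth map on the product
-/

set_option autoImplicit false
universe u

open CategoryTheory CategoryTheory.Limits AlgebraicGeometry TensorProduct

namespace Groth.Agent.Vancyc.H120.DiagSmooth

open DiagAlg

noncomputable section

attribute [local instance] MvPolynomial.algebraMvPolynomial in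
theorem isPushout_map (R B : Type u) [CommRing R] [CommRing B] [Algebra R B] (n : ℕ) :
    IsPushout (CommRingCat.ofHom (MvPolynomial.C : R →+* MvPolynomial (Fin n) R))
      (CommRingCat.ofHom (algebraMap R B))
      (CommRingCat.ofHom (MvPolynomial.map (algebraMap R B) :
        MvPolynomial (Fin n) R →+* MvPolynomial (Fin n) B))
      (CommRingCat.ofHom (MvPolynomial.C : B →+* MvPolynomial (Fin n) B)) :=
  (CommRingCat.isPushout_of_isPushout R B (MvPolynomial (Fin n) R) (MvPolynomial (Fin n) B)).flip

variable (R B : Type u) [CommRing R] [CommRing B] [Algebra R B] {n : ℕ}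
  [Algebra (MvPolynomial (Fin n) R) B] [IsScalarTower R (MvPolynomial (Fin n) R) B]

/-- The map `X_i ↦ 1 ⊗ b_i - b_i ⊗ 1`. -/
def del : MvPolynomial (Fin n) R →+* B ⊗[R] B :=
  MvPolynomial.eval₂Hom (algebraMap R (B ⊗[R] B)) fun i => dl R B (co R B i)

theorem del_C (r : R) : del R B (n := n) (MvPolynomial.C r) = algebraMap R (B ⊗[R] B) r :=
  MvPolynomial.eval₂Hom_C _ _ _

theorem del_X (i : Fin n) : del R B (MvPolynomial.X i) = dl R B (co R B i) :=
  MvPolynomial.eval₂Hom_X' _ _ _

/-- The map `B[X] → B ⊗ B`. -/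
def ee : MvPolynomial (Fin n) B →+* B ⊗[R] B :=
  MvPolynomial.eval₂Hom (Algebra.TensorProduct.includeLeftRingHom : B →+* B ⊗[R] B)
    fun i => 1 ⊗ₜ co R B i

/-- The translation. -/
def sh : MvPolynomial (Fin n) B ≃+* MvPolynomial (Fin n) B :=
  RingEquiv.ofRingHom
    (MvPolynomial.eval₂Hom MvPolynomial.C
      (fun i => MvPolynomial.X i - MvPolynomial.C (co R B i)))
    (MvPolynomial.eval₂Hom MvPolynomial.C
      (fun i => MvPolynomial.X i + MvPolynomial.C (co R B i)))
    (by apply MvPolynomial.ringHom_ext <;> intro i <;> simp)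
    (by apply MvPolynomial.ringHom_ext <;> intro i <;> simp)

/-- The translation as a ring map. -/
abbrev shH : MvPolynomial (Fin n) B →+* MvPolynomial (Fin n) B := (sh R B (n := n)).toRingHom

theorem isPushout_ee : IsPushout
    (CommRingCat.ofHom (algebraMap (MvPolynomial (Fin n) R) B))
    (CommRingCat.ofHom (MvPolynomial.map (algebraMap R B) :
      MvPolynomial (Fin n) R →+* MvPolynomial (Fin n) B))
    (CommRingCat.ofHom (Algebra.TensorProduct.includeRight.toRingHom : B →+* B ⊗[R] B))
    (CommRingCat.ofHom (ee R B (n := n))) := by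
  have hout := CommRingCat.isPushout_tensorProduct R B B
  have hleft := isPushout_map R B n
  refine IsPushout.of_left (h₁₁ := CommRingCat.ofHom (MvPolynomial.C : R →+* MvPolynomial (Fin n) R))
    (v₁₁ := CommRingCat.ofHom (algebraMap R B))
    (h₂₁ := CommRingCat.ofHom (MvPolynomial.C : B →+* MvPolynomial (Fin n) B)) ?_ ?_ hleft
  · have h1 : CommRingCat.ofHom (MvPolynomial.C : R →+* MvPolynomial (Fin n) R) ≫
        CommRingCat.ofHom (algebraMap (MvPolynomial (Fin n) R) B) =
        CommRingCat.ofHom (algebraMap R B) := by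
      rw [← CommRingCat.ofHom_comp, ← MvPolynomial.algebraMap_eq,
        ← IsScalarTower.algebraMap_eq]
    have h2 : CommRingCat.ofHom (MvPolynomial.C : B →+* MvPolynomial (Fin n) B) ≫
        CommRingCat.ofHom (ee R B (n := n)) =
        CommRingCat.ofHom (Algebra.TensorProduct.includeLeftRingHom : B →+* B ⊗[R] B) := by
      ext b
      simp [ee]
    rw [h1, h2]
    exact hout.flip
  · apply CommRingCat.hom_ext
    apply MvPolynomial.ringHom_ext
    · intro r
      simp only [ee, CommRingCat.hom_comp, CommRingCat.hom_ofHom, RingHom.comp_apply,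
        MvPolynomial.map_C, MvPolynomial.eval₂Hom_C]
      rw [← MvPolynomial.algebraMap_eq, ← IsScalarTower.algebraMap_apply]
      change (1 : B) ⊗ₜ[R] (algebraMap R B r) = (algebraMap R B r) ⊗ₜ[R] (1 : B)
      rw [Algebra.algebraMap_eq_smul_one, TensorProduct.smul_tmul]
    · intro i
      simp [ee]

theorem del_eq : del R B (n := n) = ((ee R B (n := n)).comp (shH R B (n := n))).comp
    (MvPolynomial.map (algebraMap R B)) := by
  apply MvPolynomial.ringHom_ext
  · intro r
    rw [del_C]
    simp [ee, sh]
  · intro i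
    rw [del_X]
    simp [ee, sh, dl]

theorem smooth_B (h0 : SmoothOfRelativeDimension 0
      (Spec.map (CommRingCat.ofHom (algebraMap (MvPolynomial (Fin n) R) B)))) :
    SmoothOfRelativeDimension n (Spec.map (CommRingCat.ofHom (algebraMap R B))) := by
  have h1 := FlatB.AffSpaceSmooth.smoothOfRelativeDimension_SpecMap R n
  have h2 : SmoothOfRelativeDimension (0 + n)
    (Spec.map (CommRingCat.ofHom (algebraMap (MvPolynomial (Fin n) R) B)) ≫
      Spec.map (CommRingCat.ofHom (algebraMap R (MvPolynomial (Fin n) R)))) := inferInstance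
  rwa [zero_add, ← Spec.map_comp, ← CommRingCat.ofHom_comp, ← IsScalarTower.algebraMap_eq] at h2

omit [Algebra (MvPolynomial (Fin n) R) B] [IsScalarTower R (MvPolynomial (Fin n) R) B] in
theorem smooth_map (hB : SmoothOfRelativeDimension n (Spec.map (CommRingCat.ofHom
    (algebraMap R B)))) :
    SmoothOfRelativeDimension n (Spec.map (CommRingCat.ofHom
      (MvPolynomial.map (algebraMap R B) :
        MvPolynomial (Fin n) R →+* MvPolynomial (Fin n) B))) := by
  have := smoothOfRelativeDimension_isStableUnderBaseChange (n := n)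
  exact MorphismProperty.of_isPullback ((isPushout_map R B n).op.map Scheme.Spec) hB

theorem smooth_ee (h0 : SmoothOfRelativeDimension 0
      (Spec.map (CommRingCat.ofHom (algebraMap (MvPolynomial (Fin n) R) B)))) :
    SmoothOfRelativeDimension 0 (Spec.map (CommRingCat.ofHom (ee R B (n := n)))) := by
  have := smoothOfRelativeDimension_isStableUnderBaseChange (n := 0)
  exact MorphismProperty.of_isPullback ((isPushout_ee R B (n := n)).op.map Scheme.Spec).flip h0

theorem isIso_sh : IsIso (Spec.map (CommRingCat.ofHom (shH R B (n := n)))) := by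
  have h : IsIso (CommRingCat.ofHom (shH R B (n := n))) :=
    (sh R B (n := n)).toCommRingCatIso.isIso_hom
  infer_instance

theorem smooth_comp3 {X₁ X₂ X₃ X₄ : Scheme.{u}} (a : X₁ ⟶ X₂) (b : X₂ ⟶ X₃) (c : X₃ ⟶ X₄)
    (n : ℕ) (ha : SmoothOfRelativeDimension 0 a) (hb : IsIso b)
    (hc : SmoothOfRelativeDimension n c) : SmoothOfRelativeDimension n (a ≫ b ≫ c) := by
  have h3 : SmoothOfRelativeDimension n (b ≫ c) := by
    rw [MorphismProperty.cancel_left_of_respectsIso (P := @SmoothOfRelativeDimension n)]
    exact hc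
  have h4 : SmoothOfRelativeDimension (0 + n) (a ≫ b ≫ c) := inferInstance
  rwa [zero_add] at h4

theorem Spec_del : Spec.map (CommRingCat.ofHom (del R B (n := n))) =
    Spec.map (CommRingCat.ofHom (ee R B (n := n))) ≫
      Spec.map (CommRingCat.ofHom (shH R B (n := n))) ≫
        Spec.map (CommRingCat.ofHom (MvPolynomial.map (algebraMap R B) :
          MvPolynomial (Fin n) R →+* MvPolynomial (Fin n) B)) := by
  rw [← Spec.map_comp, ← Spec.map_comp, ← CommRingCat.ofHom_comp, ← CommRingCat.ofHom_comp,
    del_eq, RingHom.comp_assoc]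

theorem smooth_del (h0 : SmoothOfRelativeDimension 0
      (Spec.map (CommRingCat.ofHom (algebraMap (MvPolynomial (Fin n) R) B)))) :
    SmoothOfRelativeDimension n (Spec.map (CommRingCat.ofHom (del R B (n := n)))) := by
  rw [Spec_del]
  exact smooth_comp3 _ _ _ n (smooth_ee R B h0) (isIso_sh R B)
    (smooth_map R B (smooth_B R B h0))

end

end Groth.Agent.Vancyc.H120.DiagSmooth
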