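import Groth.Agent.Vancyc.H120.AffChart
import Groth.Agent.Vancyc.H120.OpenChart
import Groth.Agent.Vancyc.H120.DiagSmooth
import Groth.Agent.Sga4B.SmoothPair

/-!
# Charts of smooth pairs over a field
-/

set_option autoImplicit false
universe u

open CategoryTheory CategoryTheory.Limits AlgebraicGeometry

namespace Groth.Agent.Vancyc.H120.PairChart

open Groth.Agent.Sga4h.H13 AffChart

noncomputable section

section Alg

variable {k : Type u} [Field k] {A : Type u} [CommRing A] (σ : k →+* A) (m : ℕ)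

/-- Change of coefficients. -/
def coef : MvPolynomial (ULift.{u} (Fin m)) k →+* MvPolynomial (Fin m) A :=
  MvPolynomial.eval₂Hom (MvPolynomial.C.comp σ) fun i => MvPolynomial.X i.down

theorem coef_C (a : k) : coef σ m (MvPolynomial.C a) = MvPolynomial.C (σ a) := by
  simp [coef]

theorem coef_X (i : ULift.{u} (Fin m)) : coef σ m (MvPolynomial.X i) = MvPolynomial.X i.down := by
  simp [coef]

theorem coef_eq : coef σ m = (MvPolynomial.map σ).comp
    (MvPolynomial.renameEquiv k (Equiv.ulift : ULift.{u} (Fin m) ≃ Fin m)).toRingEquiv.toRingHom := by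
  apply MvPolynomial.ringHom_ext
  · intro a
    rw [coef_C]
    simp
  · intro a
    rw [coef_X]
    simp

theorem flat_map : Flat (Spec.map (CommRingCat.ofHom
    (MvPolynomial.map σ : MvPolynomial (Fin m) k →+* MvPolynomial (Fin m) A))) := by
  let _ : Algebra k A := σ.toAlgebra
  have h := (DiagSmooth.isPushout_map k A m).op.map Scheme.Spec
  have h1 : Flat (Spec.map (CommRingCat.ofHom (algebraMap k A))) := by
    rw [HasRingHomProperty.Spec_iff (P := @Flat)]
    rw [CommRingCat.hom_ofHom, RingHom.flat_algebraMap_iff]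
    infer_instance
  exact MorphismProperty.of_isPullback h h1

theorem flat_coef : Flat (Spec.map (CommRingCat.ofHom (coef σ m))) := by
  rw [coef_eq, CommRingCat.ofHom_comp, Spec.map_comp]
  have h1 := flat_map σ m
  have h2 : IsIso (CommRingCat.ofHom ((MvPolynomial.renameEquiv k
      (Equiv.ulift : ULift.{u} (Fin m) ≃ Fin m)).toRingEquiv.toRingHom)) :=
    ((MvPolynomial.renameEquiv k
      (Equiv.ulift : ULift.{u} (Fin m) ≃ Fin m)).toRingEquiv.toCommRingCatIso).isIso_hom
  infer_instance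

end Alg

variable {k : Type u} [Field k] {X S Z : Scheme.{u}} (x : X ⟶ Spec (CommRingCat.of k))
  (f : X ⟶ S) (s : S ⟶ Spec (CommRingCat.of k)) (hs : f ≫ s = x) (i : Z ⟶ X)
  [IsClosedImmersion i] (r m : ℕ)

include hs in
theorem exists_data [SmoothOfRelativeDimension (r + m) f] [SmoothOfRelativeDimension r (i ≫ f)]
    (z : Z) : ∃ (C D : Type u) (_ : CommRing C) (_ : CommRing D) (j : Spec (CommRingCat.of C) ⟶ X)
      (_ : IsOpenImmersion j) (ψ : C →+* D) (κ : Spec (CommRingCat.of D) ⟶ Z)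
      (φ : MvPolynomial (ULift.{u} (Fin m)) k →+* C), i z ∈ j.opensRange ∧
      Function.Surjective ψ ∧ IsPullback (Spec.map (CommRingCat.ofHom ψ)) κ j i ∧
      Spec.map (CommRingCat.ofHom (φ.comp MvPolynomial.C)) = j ≫ x ∧
      RingHom.ker ψ = Ideal.span (Set.range fun a => φ (MvPolynomial.X a)) ∧ φ.Flat := by
  obtain ⟨_, ⟨V, hV, rfl⟩, hzV, -⟩ :=
    S.isBasis_affineOpens.exists_subset_of_mem_open (Set.mem_univ (f (i z))) isOpen_univ
  obtain ⟨_, ⟨U, hU, rfl⟩, hzU, hUV⟩ :=
    X.isBasis_affineOpens.exists_subset_of_mem_open (show i z ∈ (f ⁻¹ᵁ V : Set X) from hzV)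
      (f ⁻¹ᵁ V).isOpen
  replace hV : IsAffineOpen V := hV
  replace hU : IsAffineOpen U := hU
  obtain ⟨g, φ, hg, hφ, hφC, hφJ⟩ := Sga4B.SmoothPair.exists_chart_zariski f i r m
    inferInstance inferInstance z hV hU hzU hUV
  obtain ⟨b, hb⟩ := Sga4B.PushoutQuot.exists_isPullback i hU
    (algebraMap Γ(X, U) (Localization.Away g)) _ hφJ
  let σ : k →+* Γ(S, V) := (Spec.preimage (hV.fromSpec ≫ s)).hom
  have hσ : Spec.map (CommRingCat.ofHom σ) = hV.fromSpec ≫ s := Spec.map_preimage _
  have hopen : IsOpenImmersion (Spec.map (CommRingCat.ofHom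
    (algebraMap Γ(X, U) (Localization.Away g)))) := IsOpenImmersion.of_isLocalization g
  have hEt : Etale (Spec.map (CommRingCat.ofHom φ)) := by
    rw [HasRingHomProperty.Spec_iff (P := @Etale)]
    exact hφ
  refine ⟨Localization.Away g, _, inferInstance, inferInstance, _, inferInstance,
    Ideal.Quotient.mk _, b, φ.comp (coef (MvPolynomial.C.comp σ) m), ?_,
    Ideal.Quotient.mk_surjective, hb.flip, ?_, ?_, ?_⟩
  · obtain ⟨q, hq, hqa⟩ := Sga4B.SmoothPair.exists_fromSpec hU hzU
    have h5 : q ∈ Set.range (PrimeSpectrum.comap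
        (algebraMap Γ(X, U) (Localization.Away g))) := by
      rw [PrimeSpectrum.localization_away_comap_range (Localization.Away g) g]
      exact (hqa g).2 hg
    obtain ⟨p, hp⟩ := h5
    refine ⟨p, ?_⟩
    change hU.fromSpec (PrimeSpectrum.comap (algebraMap Γ(X, U) (Localization.Away g)) p) = _
    rw [hp, hq]
  · have h1 : (φ.comp (coef (MvPolynomial.C.comp σ) m)).comp MvPolynomial.C =
        ((algebraMap Γ(X, U) (Localization.Away g)).comp (f.appLE V U hUV).hom).comp σ := by
      rw [← hφC]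
      ext a
      simp only [RingHom.comp_apply]
      rw [coef_C]
      rfl
    rw [h1, CommRingCat.ofHom_comp, Spec.map_comp, hσ, CommRingCat.ofHom_comp, Spec.map_comp,
      CommRingCat.ofHom_hom, Category.assoc, Category.assoc,
      IsAffineOpen.SpecMap_appLE_fromSpec_assoc, hs]
  · rw [Ideal.mk_ker]
    congr 1
    ext c
    constructor
    · rintro ⟨a, rfl⟩
      exact ⟨ULift.up a, by simp only [RingHom.comp_apply]; rw [coef_X]⟩
    · rintro ⟨a, rfl⟩
      exact ⟨a.down, by simp only [RingHom.comp_apply]; rw [coef_X]⟩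
  · have h1 := flat_coef (MvPolynomial.C.comp σ : k →+* MvPolynomial (Fin r) Γ(S, V)) m
    have h2 : Flat (Spec.map (CommRingCat.ofHom (φ.comp (coef (MvPolynomial.C.comp σ) m)))) := by
      rw [CommRingCat.ofHom_comp, Spec.map_comp]
      infer_instance
    exact (HasRingHomProperty.Spec_iff (P := @Flat)).1 h2

include hs in
/-- **Flat charts of smooth pairs.** -/
theorem exists_chart [SmoothOfRelativeDimension (r + m) f] [SmoothOfRelativeDimension r (i ≫ f)]
    (z : Z) : ∃ (U : X.Opens) (Φ : U.toScheme ⟶ Aff k m), IsAffineOpen U ∧ i z ∈ U ∧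
      Φ ≫ Aff.str k m = U.ι ≫ x ∧ (origin k m).ker.comap Φ = i.ker.comap U.ι ∧ Flat Φ := by
  obtain ⟨C, D, _, _, j, _, ψ, κ, φ, h1, h2, h3, h4, h5, h6⟩ := exists_data x f s hs i r m z
  obtain ⟨Φ, e1, e2, e3⟩ := AffChart.exists_chart x i j ψ h2 κ h3 φ h4 h5
  exact ⟨j.opensRange, Φ, isAffineOpen_opensRange j, h1, e1, e2, e3 h6⟩

include hs in
/-- Local equations of smooth pairs. -/
theorem exists_eqs [SmoothOfRelativeDimension (r + m) f] [SmoothOfRelativeDimension r (i ≫ f)]
    (z : Z) : ∃ (U : X.affineOpens) (v : ULift.{u} (Fin m) → Γ(X, U.1)), i z ∈ U.1 ∧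
      i.ker.ideal U = Ideal.span (Set.range v) := by
  obtain ⟨C, D, _, _, j, _, ψ, κ, φ, h1, h2, h3, h4, h5, h6⟩ := exists_data x f s hs i r m z
  refine ⟨⟨j ''ᵁ ⊤, DefSp.affU j⟩, fun a => (DefSp.eta j).hom.hom (φ (MvPolynomial.X a)), ?_, ?_⟩
  · change i z ∈ j ''ᵁ ⊤
    rw [Scheme.Hom.image_top_eq_opensRange]
    exact h1
  · rw [DefSp.ideal_of_isPullback j i ψ κ h3, h5, Ideal.map_span, ← Set.range_comp]
    rfl

end

end Groth.Agent.Vancyc.H120.PairChart
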