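import Mathlib.Algebra.Polynomial.Laurent
import Mathlib.RingTheory.Ideal.Operations
import Mathlib.RingTheory.Localization.Away.Basic
import Mathlib.RingTheory.Localization.Ideal

/-!
# The extended Rees algebra

For an ideal `I` of `B`, `rees I` is the subalgebra `⊕ I^n T^(-n)` of `B[T;T⁻¹]` (with `I^n = B` for
`n ≤ 0`).
-/

set_option autoImplicit false
universe u v

open LaurentPolynomial

namespace Groth.Agent.Vancyc.H120.Rees

noncomputable section

/-- The exponent `max (-n) 0`. -/
def ex (n : ℤ) : ℕ := (-n).toNat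

theorem ex_add_le (a b : ℤ) : ex (a + b) ≤ ex a + ex b := by unfold ex; omega

@[simp] theorem ex_natCast (n : ℕ) : ex (n : ℤ) = 0 := by unfold ex; omega

@[simp] theorem ex_neg_natCast (n : ℕ) : ex (-(n : ℤ)) = n := by unfold ex; omega

@[simp] theorem ex_zero : ex 0 = 0 := rfl
@[simp] theorem ex_one : ex 1 = 0 := rfl
@[simp] theorem ex_neg_one : ex (-1) = 1 := rfl

variable {B : Type u} [CommRing B] (I : Ideal B)

/-- The extended Rees algebra. -/
def rees : Subalgebra B B[T;T⁻¹] where
  carrier := {p | ∀ n : ℤ, p.coeff n ∈ I ^ ex n}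
  mul_mem' {p q} hp hq n := by
    classical
    rw [AddMonoidAlgebra.coeff_mul, Finsupp.sum]
    refine sum_mem fun a _ => ?_
    rw [Finsupp.sum]
    refine sum_mem fun b _ => ?_
    split_ifs with h
    · subst h
      refine Ideal.pow_le_pow_right (ex_add_le a b) ?_
      rw [pow_add]
      exact Ideal.mul_mem_mul (hp a) (hq b)
    · exact zero_mem _
  add_mem' {p q} hp hq n := by
    rw [AddMonoidAlgebra.coeff_add, Finsupp.add_apply]
    exact add_mem (hp n) (hq n)
  algebraMap_mem' r n := by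
    rw [← C_eq_algebraMap, C_apply]
    split_ifs with h
    · subst h; simp
    · exact zero_mem _

theorem mem_rees {p : B[T;T⁻¹]} : p ∈ rees I ↔ ∀ n : ℤ, p.coeff n ∈ I ^ ex n := Iff.rfl

theorem coeff_C_mul_T (a : B) (n m : ℤ) :
    (C a * T n : B[T;T⁻¹]).coeff m = if n = m then a else 0 := by
  rw [← single_eq_C_mul_T]
  exact Finsupp.single_apply

theorem C_mul_T_mem {a : B} {n : ℤ} : (C a * T n : B[T;T⁻¹]) ∈ rees I ↔ a ∈ I ^ ex n := by
  rw [mem_rees]
  constructor
  · intro h
    have := h n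
    rwa [coeff_C_mul_T, if_pos rfl] at this
  · intro h m
    rw [coeff_C_mul_T]
    split_ifs with hm
    · subst hm; exact h
    · exact zero_mem _

/-- Decomposition of a Laurent polynomial. -/
theorem eq_sum (p : B[T;T⁻¹]) : p = ∑ n ∈ p.coeff.support, C (p.coeff n) * T n := by
  ext m
  rw [AddMonoidAlgebra.coeff_sum, Finsupp.finsetSum_apply]
  simp only [coeff_C_mul_T]
  rw [Finset.sum_ite_eq']
  split_ifs with h
  · rfl
  · exact Finsupp.notMem_support_iff.1 h

theorem T_mem (n : ℕ) : (T n : B[T;T⁻¹]) ∈ rees I := by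
  rw [← one_mul (T (n : ℤ)), ← map_one (C (R := B)), C_mul_T_mem]
  simp

/-- The parameter. -/
def t : rees I := ⟨T 1, T_mem I 1⟩

theorem coe_t : ((t I : rees I) : B[T;T⁻¹]) = T 1 := rfl

theorem isRegular_T (n : ℤ) : IsRegular (T n : B[T;T⁻¹]) := (isUnit_T n).isRegular

theorem t_mem_nonZeroDivisors : t I ∈ nonZeroDivisors (rees I) := by
  rw [mem_nonZeroDivisors_iff_right]
  intro x hx
  apply Subtype.ext
  have h : (x : B[T;T⁻¹]) * T 1 = 0 := congrArg Subtype.val hx
  exact (isRegular_T 1).right.eq_iff.1 (h.trans (zero_mul _).symm)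

/-- Homogeneous elements. -/
def hom (n : ℕ) (a : B) (ha : a ∈ I ^ n) : rees I :=
  ⟨C a * T (-(n : ℤ)), (C_mul_T_mem I).2 (by simpa using ha)⟩

theorem coe_hom (n : ℕ) (a : B) (ha : a ∈ I ^ n) :
    ((hom I n a ha : rees I) : B[T;T⁻¹]) = C a * T (-(n : ℤ)) := rfl

/-- The element `a T⁻¹`. -/
def u (a : B) (ha : a ∈ I) : rees I := ⟨C a * T (-1), (C_mul_T_mem I).2 (by simpa using ha)⟩

theorem coe_u (a : B) (ha : a ∈ I) : ((u I a ha : rees I) : B[T;T⁻¹]) = C a * T (-1) := rfl

theorem algebraMap_coe (b : B) : ((algebraMap B (rees I) b : rees I) : B[T;T⁻¹]) = C b := rfl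

theorem t_mul_u (a : B) (ha : a ∈ I) : t I * u I a ha = algebraMap B (rees I) a := by
  apply Subtype.ext
  change T 1 * (C a * T (-1)) = (C a : B[T;T⁻¹])
  rw [mul_left_comm, ← T_add]
  simp

/-! ## Functoriality -/

section Map

variable {B' : Type v} [CommRing B'] (I' : Ideal B') (φ : B →+* B')

/-- The map of Laurent polynomials. -/
abbrev lmap : B[T;T⁻¹] →+* B'[T;T⁻¹] := AddMonoidAlgebra.mapRingHom ℤ φ

theorem coeff_lmap (p : B[T;T⁻¹]) (n : ℤ) : (lmap φ p).coeff n = φ (p.coeff n) := by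
  simp [lmap]

theorem lmap_C (b : B) : lmap φ (C b) = C (φ b) := by
  ext n; rw [coeff_lmap, C_apply, C_apply]; split_ifs <;> simp

theorem lmap_T (n : ℤ) : lmap φ (T n) = T n := by
  ext m; rw [coeff_lmap, T_apply, T_apply]; split_ifs <;> simp

theorem lmap_mem (h : I.map φ ≤ I') {p : B[T;T⁻¹]} (hp : p ∈ rees I) : lmap φ p ∈ rees I' := by
  intro n
  rw [coeff_lmap]
  have h1 : (I ^ ex n).map φ ≤ I' ^ ex n := by
    rw [Ideal.map_pow]; exact Ideal.pow_right_mono h _
  exact h1 (Ideal.mem_map_of_mem φ (hp n))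

/-- Functoriality of the Rees algebra. -/
def map (h : I.map φ ≤ I') : rees I →+* rees I' :=
  ((lmap φ).comp (rees I).subtype).codRestrict (rees I') fun p => lmap_mem I I' φ h p.2

theorem coe_map (h : I.map φ ≤ I') (p : rees I) :
    ((map I I' φ h p : rees I') : B'[T;T⁻¹]) = lmap φ p := rfl

theorem map_algebraMap (h : I.map φ ≤ I') (b : B) :
    map I I' φ h (algebraMap B (rees I) b) = algebraMap B' (rees I') (φ b) := by
  apply Subtype.ext
  exact lmap_C φ b

theorem map_t (h : I.map φ ≤ I') : map I I' φ h (t I) = t I' := by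
  apply Subtype.ext
  exact lmap_T φ 1

theorem map_u (h : I.map φ ≤ I') (a : B) (ha : a ∈ I) :
    map I I' φ h (u I a ha) = u I' (φ a) (h (Ideal.mem_map_of_mem φ ha)) := by
  apply Subtype.ext
  change lmap φ (C a * T (-1)) = C (φ a) * T (-1)
  rw [map_mul, lmap_C, lmap_T]

end Map

section Loc

variable (f : B) (B' : Type v) [CommRing B'] [Algebra B B'] [IsLocalization.Away f B']

/-- The Rees algebra commutes with localization. -/
theorem isLocalization_map (I' : Ideal B') (hI' : I' = I.map (algebraMap B B')) :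
    @IsLocalization.Away _ _ (algebraMap B (rees I) f) (rees I') _
      (map I I' (algebraMap B B') hI'.ge).toAlgebra := by
  let _ := (map I I' (algebraMap B B') hI'.ge).toAlgebra
  have halg : ∀ p : rees I, ((algebraMap (rees I) (rees I') p : rees I') : B'[T;T⁻¹]) =
      lmap (algebraMap B B') p := fun p => rfl
  have hpow : ∀ n, I' ^ n = (I ^ n).map (algebraMap B B') := by
    intro n; rw [hI', Ideal.map_pow]
  have hf : ∀ n : ℕ, ((algebraMap (rees I) (rees I') (algebraMap B (rees I) f) ^ n : rees I') :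
      B'[T;T⁻¹]) = C (algebraMap B B' f ^ n) := by
    intro n
    rw [SubmonoidClass.coe_pow, halg, algebraMap_coe, lmap_C, ← map_pow]
  refine IsLocalization.Away.mk _ ?_ ?_ ?_
  · change IsUnit (map I I' (algebraMap B B') hI'.ge (algebraMap B (rees I) f))
    rw [map_algebraMap]
    exact (IsLocalization.Away.algebraMap_isUnit f).map _
  · -- surjectivity
    intro s
    have key : ∀ (F : Finset ℤ) (b : ℤ → B') (_ : ∀ n, b n ∈ I' ^ ex n),
        ∃ (N : ℕ) (a : rees I), (∑ n ∈ F, C (b n) * T n : B'[T;T⁻¹]) * C (algebraMap B B' f ^ N) =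
          lmap (algebraMap B B') a := by
      intro F b hb
      induction F using Finset.induction_on with
      | empty => exact ⟨0, 0, by simp⟩
      | insert m F hm ih =>
        obtain ⟨N, a, ha⟩ := ih
        have h1 := hb m
        rw [hpow, IsLocalization.mem_map_algebraMap_iff (Submonoid.powers f)] at h1
        obtain ⟨⟨c, ⟨_, M, rfl⟩⟩, hc⟩ := h1
        let c' : rees I := ⟨C (c : B) * T m, (C_mul_T_mem I).2 c.2⟩
        refine ⟨M + N, algebraMap B (rees I) (f ^ N) * c' + algebraMap B (rees I) (f ^ M) * a, ?_⟩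
        change _ = lmap (algebraMap B B') (C (f ^ N) * (C (c : B) * T m) + C (f ^ M) * (a : B[T;T⁻¹]))
        rw [map_add, map_mul, map_mul, map_mul, ← ha, lmap_C, lmap_C, lmap_C, lmap_T,
          Finset.sum_insert hm, ← hc, pow_add, map_pow, map_pow, map_pow, map_mul, map_mul]
        simp only [map_pow]
        ring
    obtain ⟨N, a, ha⟩ := key _ (fun n => (s : B'[T;T⁻¹]).coeff n) (fun n => s.2 n)
    refine ⟨N, a, ?_⟩
    apply Subtype.ext
    rw [← eq_sum] at ha
    rw [halg, ← ha]
    change (s : B'[T;T⁻¹]) * _ = _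
    rw [hf]
  · intro a b hab
    have h0 : ∀ n, algebraMap B B' ((a : B[T;T⁻¹]).coeff n) =
        algebraMap B B' ((b : B[T;T⁻¹]).coeff n) := by
      intro n
      have := congrArg (fun p : rees I' => (p : B'[T;T⁻¹]).coeff n) hab
      simpa only [halg, coeff_lmap] using this
    have h1 : ∀ n, ∃ N : ℕ, f ^ N * (a : B[T;T⁻¹]).coeff n = f ^ N * (b : B[T;T⁻¹]).coeff n :=
      fun n => IsLocalization.Away.exists_of_eq f (h0 n)
    choose N hN using h1
    let F := (a : B[T;T⁻¹]).coeff.support ∪ (b : B[T;T⁻¹]).coeff.support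
    refine ⟨F.sup N, ?_⟩
    apply Subtype.ext
    have hC : ∀ c : rees I, (((algebraMap B (rees I) f) ^ (F.sup N) * c : rees I) : B[T;T⁻¹]) =
        (f ^ (F.sup N)) • (c : B[T;T⁻¹]) := by
      intro c
      rw [smul_eq_C_mul, map_pow]
      rfl
    rw [hC, hC]
    ext n
    rw [AddMonoidAlgebra.coeff_smul_apply, AddMonoidAlgebra.coeff_smul_apply, smul_eq_mul,
      smul_eq_mul]
    by_cases hn : n ∈ F
    · obtain ⟨d, hd⟩ := Nat.exists_eq_add_of_le (Finset.le_sup (f := N) hn)
      rw [hd, pow_add, mul_right_comm, hN n]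
      ring
    · have hna : (a : B[T;T⁻¹]).coeff n = 0 :=
        Finsupp.notMem_support_iff.1 fun h => hn (Finset.mem_union_left _ h)
      have hnb : (b : B[T;T⁻¹]).coeff n = 0 :=
        Finsupp.notMem_support_iff.1 fun h => hn (Finset.mem_union_right _ h)
      rw [hna, hnb]

end Loc

end

end Groth.Agent.Vancyc.H120.Rees
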