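import Groth.Agent.Vancyc.H120.ReesSch

/-!
# Fibres of the extended Rees algebra

* `polyMap`: for `φ : B → S` with `φ(I) = 0`, the map `rees I → S[X]`;
* `eps`: the map `rees I → B` sending `t` to `1`; its kernel is generated by `t - 1`.
-/

set_option autoImplicit false
universe u v w

open LaurentPolynomial CategoryTheory CategoryTheory.Limits AlgebraicGeometry

namespace Groth.Agent.Vancyc.H120.ReesFib

open Rees ReesFlat ReesSch

noncomputable section

variable {B : Type u} [CommRing B] (I : Ideal B)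

section PolyMap

variable {S : Type v} [CommRing S] (φ : B →+* S) (h : ∀ a ∈ I, φ a = 0)

include h in
theorem lmap_mem_range (p : rees I) :
    lmap φ (p : B[T;T⁻¹]) ∈ (Polynomial.toLaurent : Polynomial S →+* S[T;T⁻¹]).range := by
  rw [eq_sum (p : B[T;T⁻¹]), map_sum]
  refine sum_mem fun n _ => ?_
  rw [map_mul, lmap_C, lmap_T]
  rcases le_or_gt 0 n with hn | hn
  · lift n to ℕ using hn
    exact ⟨Polynomial.C (φ ((p : B[T;T⁻¹]).coeff n)) * Polynomial.X ^ n,
      Polynomial.toLaurent_C_mul_X_pow _ _⟩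
  · have h1 : (p : B[T;T⁻¹]).coeff n ∈ I := by
      have := p.2 n
      have h2 : ex n ≠ 0 := by unfold ex; omega
      exact Ideal.pow_le_self h2 this
    rw [h _ h1, map_zero, zero_mul]
    exact zero_mem _

/-- The map `rees I → S[X]` attached to `φ : B → S` killing `I`. -/
def polyMap : rees I →+* Polynomial S :=
  ((RingEquiv.ofLeftInverse (f := (Polynomial.toLaurent : Polynomial S →+* S[T;T⁻¹]))
    Polynomial.trunc_toLaurent).symm : _ →+* _).comp
    (((lmap φ).comp (rees I).subtype).codRestrict _ (lmap_mem_range I φ h))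

theorem toLaurent_polyMap (p : rees I) :
    Polynomial.toLaurent (polyMap I φ h p) = lmap φ (p : B[T;T⁻¹]) := by
  have := (RingEquiv.ofLeftInverse (f := (Polynomial.toLaurent : Polynomial S →+* S[T;T⁻¹]))
    Polynomial.trunc_toLaurent).apply_symm_apply
    ((((lmap φ).comp (rees I).subtype).codRestrict _ (lmap_mem_range I φ h)) p)
  exact congrArg Subtype.val this

@[simp] theorem polyMap_algebraMap (b : B) :
    polyMap I φ h (algebraMap B (rees I) b) = Polynomial.C (φ b) := by
  apply Polynomial.toLaurent_injective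
  rw [toLaurent_polyMap, algebraMap_coe, lmap_C, Polynomial.toLaurent_C]

@[simp] theorem polyMap_t : polyMap I φ h (t I) = Polynomial.X := by
  apply Polynomial.toLaurent_injective
  rw [toLaurent_polyMap, coe_t, lmap_T, Polynomial.toLaurent_X]

@[simp] theorem polyMap_u (a : B) (ha : a ∈ I) : polyMap I φ h (u I a ha) = 0 := by
  apply Polynomial.toLaurent_injective
  rw [toLaurent_polyMap, coe_u, map_mul, lmap_C, h a ha, map_zero, zero_mul, map_zero]

theorem polyMap_surjective (hφ : Function.Surjective φ) :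
    Function.Surjective (polyMap I φ h) := by
  intro q
  induction q using Polynomial.induction_on' with
  | add p q hp hq =>
    obtain ⟨a, ha⟩ := hp
    obtain ⟨b, hb⟩ := hq
    exact ⟨a + b, by rw [map_add, ha, hb]⟩
  | monomial n a =>
    obtain ⟨b, rfl⟩ := hφ a
    refine ⟨algebraMap B (rees I) b * t I ^ n, ?_⟩
    rw [map_mul, map_pow, polyMap_algebraMap, polyMap_t, Polynomial.C_mul_X_pow_eq_monomial]

/-- Naturality of `polyMap`. -/
theorem polyMap_map {B' : Type w} [CommRing B'] (I' : Ideal B') (f : B →+* B') (hf : I.map f ≤ I')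
    {S' : Type*} [CommRing S'] (φ' : B' →+* S') (h' : ∀ a ∈ I', φ' a = 0) (g : S →+* S')
    (hg : g.comp φ = φ'.comp f) (p : rees I) :
    polyMap I' φ' h' (Rees.map I I' f hf p) = (polyMap I φ h p).map g := by
  apply Polynomial.toLaurent_injective
  rw [toLaurent_polyMap]
  have h1 : Polynomial.toLaurent ((polyMap I φ h p).map g) =
      lmap g (Polynomial.toLaurent (polyMap I φ h p)) := by
    have : (Polynomial.toLaurent : Polynomial S' →+* S'[T;T⁻¹]).comp (Polynomial.mapRingHom g) =
        (lmap g).comp (Polynomial.toLaurent : Polynomial S →+* S[T;T⁻¹]) := by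
      apply Polynomial.ringHom_ext
      · intro r
        simp only [RingHom.comp_apply, Polynomial.coe_mapRingHom, Polynomial.map_C,
          Polynomial.toLaurent_C, lmap_C]
      · simp only [RingHom.comp_apply, Polynomial.coe_mapRingHom, Polynomial.map_X,
          Polynomial.toLaurent_X, lmap_T]
    exact congr($this _)
  rw [h1, toLaurent_polyMap, coe_map]
  ext n
  rw [coeff_lmap, coeff_lmap, coeff_lmap, coeff_lmap]
  exact congr($hg _).symm

end PolyMap

section Eps

/-- The map `rees I → B` with `t ↦ 1`. -/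
def eps : rees I →+* B :=
  (LaurentPolynomial.eval₂ (RingHom.id B) (1 : Bˣ)).comp (rees I).subtype

theorem eps_apply (p : rees I) : eps I p = LaurentPolynomial.eval₂ (RingHom.id B) (1 : Bˣ) p := rfl

@[simp] theorem eps_algebraMap (b : B) : eps I (algebraMap B (rees I) b) = b := by
  rw [eps_apply, algebraMap_coe, eval₂_C, RingHom.id_apply]

@[simp] theorem eps_t : eps I (t I) = 1 := by
  rw [eps_apply, coe_t, eval₂_T]; simp

@[simp] theorem eps_u (a : B) (ha : a ∈ I) : eps I (u I a ha) = a := by
  rw [eps_apply, coe_u, eval₂_C_mul_T]; simp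

theorem eps_surjective : Function.Surjective (eps I) := fun b => ⟨_, eps_algebraMap I b⟩

theorem sub_mem_span (n : ℤ) (a : B) (ha : a ∈ I ^ ex n) :
    (⟨C a * T n, (C_mul_T_mem I).2 ha⟩ : rees I) - algebraMap B (rees I) a ∈
      Ideal.span {t I - 1} := by
  have hpow : ∀ k : ℕ, t I ^ k - 1 ∈ Ideal.span {t I - 1} := fun k =>
    Ideal.mem_span_singleton.2 (sub_one_dvd_pow_sub_one _ _)
  have hcoe : ∀ k : ℕ, ((t I ^ k : rees I) : B[T;T⁻¹]) = T k := by
    intro k
    rw [SubmonoidClass.coe_pow, coe_t, T_pow]; simp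
  rcases le_total 0 n with hn | hn
  · lift n to ℕ using hn
    have : (⟨C a * T n, (C_mul_T_mem I).2 ha⟩ : rees I) - algebraMap B (rees I) a =
        algebraMap B (rees I) a * (t I ^ n - 1) := by
      apply Subtype.ext
      change C a * T n - C a = C a * (((t I ^ n : rees I) : B[T;T⁻¹]) - 1)
      rw [hcoe]
      ring
    rw [this]
    exact Ideal.mul_mem_left _ _ (hpow n)
  · obtain ⟨m, rfl⟩ := Int.exists_eq_neg_ofNat hn
    have : (⟨C a * T (-(m : ℤ)), (C_mul_T_mem I).2 ha⟩ : rees I) - algebraMap B (rees I) a =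
        -((⟨C a * T (-(m : ℤ)), (C_mul_T_mem I).2 ha⟩ : rees I) * (t I ^ m - 1)) := by
      apply Subtype.ext
      change C a * T (-(m : ℤ)) - C a =
        -((C a * T (-(m : ℤ))) * (((t I ^ m : rees I) : B[T;T⁻¹]) - 1))
      rw [hcoe, mul_sub, mul_assoc, ← T_add, neg_add_cancel, T_zero]
      ring
    rw [this]
    exact neg_mem (Ideal.mul_mem_left _ _ (hpow m))

theorem eps_spec (p : rees I) : p - algebraMap B (rees I) (eps I p) ∈ Ideal.span {t I - 1} := by
  have h1 : p = ∑ n ∈ (p : B[T;T⁻¹]).coeff.support,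
      (⟨C ((p : B[T;T⁻¹]).coeff n) * T n, (C_mul_T_mem I).2 (p.2 n)⟩ : rees I) := by
    apply Subtype.ext
    rw [AddSubmonoidClass.coe_finsetSum]
    exact eq_sum _
  have h2 : eps I p = ∑ n ∈ (p : B[T;T⁻¹]).coeff.support, (p : B[T;T⁻¹]).coeff n := by
    conv_lhs => rw [h1]
    rw [map_sum]
    refine Finset.sum_congr rfl fun n _ => ?_
    rw [eps_apply, eval₂_C_mul_T]
    simp
  have h3 : p - algebraMap B (rees I) (eps I p) = ∑ n ∈ (p : B[T;T⁻¹]).coeff.support,
      ((⟨C ((p : B[T;T⁻¹]).coeff n) * T n, (C_mul_T_mem I).2 (p.2 n)⟩ : rees I) -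
        algebraMap B (rees I) ((p : B[T;T⁻¹]).coeff n)) := by
    rw [Finset.sum_sub_distrib, ← h1, h2, map_sum]
  rw [h3]
  exact sum_mem fun n _ => sub_mem_span I n _ (p.2 n)

variable {R : Type u} [CommRing R] (ρ : R →+* B)

/-- `rees I / (t - 1) = B`. -/
theorem isPushout_eps :
    IsPushout (CommRingCat.ofHom (tRees I ρ))
      (CommRingCat.ofHom (Polynomial.evalRingHom (1 : R)))
      (CommRingCat.ofHom (eps I)) (CommRingCat.ofHom ρ) := by
  refine ⟨⟨?_⟩, ⟨PushoutCocone.IsColimit.mk _
    (fun s => CommRingCat.ofHom (s.inl.hom.comp (algebraMap B (rees I)))) ?_ ?_ ?_⟩⟩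
  · apply CommRingCat.hom_ext
    apply Polynomial.ringHom_ext
    · intro r; simp [tRees]
    · simp [tRees]
  · intro s
    apply CommRingCat.hom_ext
    refine RingHom.ext fun p => ?_
    have hs : s.inl.hom (t I) = 1 := by
      have := congr(($s.condition).hom Polynomial.X)
      simpa [tRees] using this
    change s.inl.hom (algebraMap B (rees I) (eps I p)) = s.inl.hom p
    have h1 := Ideal.mem_span_singleton'.1 (eps_spec I p)
    obtain ⟨c, hc⟩ := h1
    have h2 := congrArg s.inl.hom hc
    rw [map_mul, map_sub, map_sub, map_one, hs, sub_self, mul_zero] at h2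
    exact (sub_eq_zero.1 h2.symm).symm
  · intro s
    apply CommRingCat.hom_ext
    refine RingHom.ext fun r => ?_
    have := congr(($s.condition).hom (Polynomial.C r))
    simpa [tRees] using this
  · intro s m h1 _
    apply CommRingCat.hom_ext
    refine RingHom.ext fun b => ?_
    rw [← h1]
    change m.hom b = m.hom (eps I (algebraMap B (rees I) b))
    rw [eps_algebraMap]

end Eps

end

end Groth.Agent.Vancyc.H120.ReesFib
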