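import Groth.Agent.Vancyc.H120.Rees
import Mathlib.RingTheory.Flat.Basic
import Mathlib.RingTheory.TensorProduct.Maps
import Mathlib.RingTheory.Polynomial.Basic
import Mathlib.Algebra.MvPolynomial.Basic

/-!
# The extended Rees algebra of an ideal generated by the coordinates of a flat map to affine space
-/

set_option autoImplicit false
universe u v w

open LaurentPolynomial TensorProduct

namespace Groth.Agent.Vancyc.H120.ReesFlat

open Rees

noncomputable section

section Gen

variable {B : Type u} [CommRing B] {I : Ideal B} (S : Set B)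

/-- A subring of `B[T;T⁻¹]` containing `B`, `T` and `s T⁻¹` for `s` in a generating set of `I`
contains the Rees algebra. -/
theorem rees_le (hS : I = Ideal.span S) (A : Subring B[T;T⁻¹]) (hC : ∀ b : B, C b ∈ A)
    (hT : (T 1 : B[T;T⁻¹]) ∈ A) (hu : ∀ s ∈ S, (C s * T (-1) : B[T;T⁻¹]) ∈ A)
    {p : B[T;T⁻¹]} (hp : p ∈ rees I) : p ∈ A := by
  have h1 : ∀ a ∈ I, (C a * T (-1) : B[T;T⁻¹]) ∈ A := by
    intro a ha
    rw [hS] at ha
    induction ha using Submodule.span_induction with
    | mem x h => exact hu x h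
    | zero => simp
    | add x y _ _ hx hy => rw [map_add, add_mul]; exact add_mem hx hy
    | smul c x _ hx => rw [smul_eq_mul, map_mul, mul_assoc]; exact mul_mem (hC c) hx
  have h2 : ∀ (n : ℕ) (a : B), a ∈ I ^ n → (C a * T (-(n : ℤ)) : B[T;T⁻¹]) ∈ A := by
    intro n
    induction n with
    | zero => intro a _; simpa using hC a
    | succ n ih =>
      intro a ha
      rw [pow_succ] at ha
      induction ha using Submodule.mul_induction_on' with
      | mem_mul_mem x hx y hy =>
        have : (C (x * y) * T (-((n + 1 : ℕ) : ℤ)) : B[T;T⁻¹]) =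
            (C x * T (-(n : ℤ))) * (C y * T (-1)) := by
          rw [map_mul, mul_mul_mul_comm, ← T_add]
          congr 2
          push_cast; ring
        rw [this]
        exact mul_mem (ih x hx) (h1 y hy)
      | add x _ y _ hx hy => rw [map_add, add_mul]; exact add_mem hx hy
  have h3 : ∀ n : ℕ, (T (n : ℤ) : B[T;T⁻¹]) ∈ A := by
    intro n
    have := pow_mem hT n
    simpa using this
  rw [eq_sum p]
  refine sum_mem fun n _ => ?_
  have hn := hp n
  rcases le_total 0 n with h | h
  · lift n to ℕ using h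
    exact mul_mem (hC _) (h3 n)
  · obtain ⟨m, rfl⟩ := Int.exists_eq_neg_ofNat h
    rw [ex_neg_natCast] at hn
    exact h2 m _ hn

end Gen

variable {R : Type u} [CommRing R] {ι : Type w}

/-- The map `x_i ↦ t u_i` from `R[x_i]` to `R[t, u_i]`. -/
def mulMap (R : Type u) [CommRing R] (ι : Type w) :
    MvPolynomial ι R →ₐ[R] MvPolynomial (Option ι) R :=
  MvPolynomial.aeval fun i => MvPolynomial.X none * MvPolynomial.X (some i)

@[simp] theorem mulMap_X (i : ι) : mulMap R ι (MvPolynomial.X i) =
    MvPolynomial.X none * MvPolynomial.X (some i) := MvPolynomial.aeval_X _ _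

variable {B : Type v} [CommRing B] (φ : MvPolynomial ι R →+* B)

/-- The map `R[t, u_i] → B[T;T⁻¹]`, `t ↦ T`, `u_i ↦ φ(x_i) T⁻¹`. -/
def chi : MvPolynomial (Option ι) R →+* B[T;T⁻¹] :=
  MvPolynomial.eval₂Hom ((C).comp (φ.comp MvPolynomial.C))
    fun o => o.elim (T 1) fun i => C (φ (MvPolynomial.X i)) * T (-1)

@[simp] theorem chi_C (r : R) : chi φ (MvPolynomial.C r) = C (φ (MvPolynomial.C r)) :=
  MvPolynomial.eval₂Hom_C _ _ _

@[simp] theorem chi_none : chi φ (MvPolynomial.X none) = T 1 :=
  MvPolynomial.eval₂Hom_X' _ _ _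

@[simp] theorem chi_some (i : ι) : chi φ (MvPolynomial.X (some i)) =
    C (φ (MvPolynomial.X i)) * T (-1) :=
  MvPolynomial.eval₂Hom_X' _ _ _

theorem chi_mulMap (p : MvPolynomial ι R) : chi φ (mulMap R ι p) = C (φ p) := by
  have : (chi φ).comp (mulMap R ι).toRingHom = (C).comp φ := by
    apply MvPolynomial.ringHom_ext
    · intro r
      simp only [RingHom.comp_apply, AlgHom.toRingHom_eq_coe, RingHom.coe_coe]
      rw [← MvPolynomial.algebraMap_eq, AlgHom.commutes, MvPolynomial.algebraMap_eq, chi_C,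
        MvPolynomial.algebraMap_eq]
    · intro i
      simp only [RingHom.comp_apply, AlgHom.toRingHom_eq_coe, RingHom.coe_coe, mulMap_X, map_mul,
        chi_none, chi_some]
      rw [mul_left_comm, ← T_add]
      simp
  exact congr($this p)

variable (I : Ideal B)

theorem chi_mem (hI : ∀ i, φ (MvPolynomial.X i) ∈ I) (p : MvPolynomial (Option ι) R) :
    chi φ p ∈ rees I := by
  induction p using MvPolynomial.induction_on with
  | C r => rw [chi_C]; exact (rees I).algebraMap_mem _
  | add p q hp hq => rw [map_add]; exact add_mem hp hq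
  | mul_X p i hp =>
    rw [map_mul]
    refine mul_mem hp ?_
    rcases i with _ | i
    · rw [chi_none]; exact T_mem I 1
    · rw [chi_some]; exact (u I _ (hI i)).2

/-- The map `R[t, u_i] → rees I`. -/
def toRees (hI : ∀ i, φ (MvPolynomial.X i) ∈ I) : MvPolynomial (Option ι) R →+* rees I :=
  (chi φ).codRestrict (rees I) (chi_mem φ I hI)

theorem coe_toRees (hI : ∀ i, φ (MvPolynomial.X i) ∈ I) (p : MvPolynomial (Option ι) R) :
    ((toRees φ I hI p : rees I) : B[T;T⁻¹]) = chi φ p := rfl

@[simp] theorem toRees_none (hI : ∀ i, φ (MvPolynomial.X i) ∈ I) :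
    toRees φ I hI (MvPolynomial.X none) = t I := Subtype.ext (chi_none φ)

@[simp] theorem toRees_some (hI : ∀ i, φ (MvPolynomial.X i) ∈ I) (i : ι) :
    toRees φ I hI (MvPolynomial.X (some i)) = u I _ (hI i) := Subtype.ext (chi_some φ i)

@[simp] theorem toRees_C (hI : ∀ i, φ (MvPolynomial.X i) ∈ I) (r : R) :
    toRees φ I hI (MvPolynomial.C r) = algebraMap B (rees I) (φ (MvPolynomial.C r)) :=
  Subtype.ext (chi_C φ r)

theorem toRees_mulMap (hI : ∀ i, φ (MvPolynomial.X i) ∈ I) (p : MvPolynomial ι R) :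
    toRees φ I hI (mulMap R ι p) = algebraMap B (rees I) (φ p) :=
  Subtype.ext (chi_mulMap φ p)

/-- Every element of `R[t,u]` becomes, after multiplication by a power of `t`, a polynomial in `t`
with coefficients in `R[x]`. -/
theorem exists_t_pow (w : MvPolynomial (Option ι) R) :
    ∃ (N : ℕ) (p : Polynomial (MvPolynomial ι R)),
      MvPolynomial.X none ^ N * w = p.eval₂ (mulMap R ι : _ →+* _) (MvPolynomial.X none) := by
  induction w using MvPolynomial.induction_on with
  | C r =>
    refine ⟨0, Polynomial.C (MvPolynomial.C r), ?_⟩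
    rw [Polynomial.eval₂_C, pow_zero, one_mul, RingHom.coe_coe, ← MvPolynomial.algebraMap_eq,
      ← MvPolynomial.algebraMap_eq, AlgHom.commutes]
  | add p q hp hq =>
    obtain ⟨N, p', hp'⟩ := hp
    obtain ⟨M, q', hq'⟩ := hq
    refine ⟨N + M, Polynomial.X ^ M * p' + Polynomial.X ^ N * q', ?_⟩
    rw [Polynomial.eval₂_add, Polynomial.eval₂_mul, Polynomial.eval₂_mul, Polynomial.eval₂_X_pow,
      Polynomial.eval₂_X_pow, ← hp', ← hq']
    ring
  | mul_X p i hp =>
    obtain ⟨N, p', hp'⟩ := hp
    rcases i with _ | i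
    · refine ⟨N, p' * Polynomial.X, ?_⟩
      rw [Polynomial.eval₂_mul, Polynomial.eval₂_X, ← hp']
      ring
    · refine ⟨N + 1, p' * Polynomial.C (MvPolynomial.X i), ?_⟩
      rw [Polynomial.eval₂_mul, Polynomial.eval₂_C, ← hp', RingHom.coe_coe, mulMap_X]
      ring

section Flat

variable [Algebra (MvPolynomial ι R) B] [Algebra (MvPolynomial ι R) (MvPolynomial (Option ι) R)]
  (hφ : algebraMap (MvPolynomial ι R) B = φ)
  (hm : algebraMap (MvPolynomial ι R) (MvPolynomial (Option ι) R) = (mulMap R ι : _ →+* _))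

variable (R ι B) in
/-- The element `t` of the tensor product. -/
def tD : B ⊗[MvPolynomial ι R] MvPolynomial (Option ι) R := 1 ⊗ₜ MvPolynomial.X none

variable (R ι B) in
/-- The map `B[t] → B ⊗ R[t,u]`. -/
def kap : Polynomial B →+* B ⊗[MvPolynomial ι R] MvPolynomial (Option ι) R :=
  Polynomial.eval₂RingHom Algebra.TensorProduct.includeLeftRingHom (tD R ι B)

include hφ hm in
theorem kap_map (p : Polynomial (MvPolynomial ι R)) :
    kap R ι B (p.map φ) = (1 : B) ⊗ₜ[MvPolynomial ι R]
      (p.eval₂ (mulMap R ι : _ →+* _) (MvPolynomial.X none)) := by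
  have : (kap R ι B).comp (Polynomial.mapRingHom φ) =
      ((Algebra.TensorProduct.includeRight : MvPolynomial (Option ι) R →ₐ[MvPolynomial ι R]
        B ⊗[MvPolynomial ι R] MvPolynomial (Option ι) R) : _ →+* _).comp
        (Polynomial.eval₂RingHom (mulMap R ι : MvPolynomial ι R →+* MvPolynomial (Option ι) R)
          (MvPolynomial.X none)) := by
    apply Polynomial.ringHom_ext
    · intro r
      simp only [kap, RingHom.comp_apply, Polynomial.coe_mapRingHom, Polynomial.map_C,
        Polynomial.coe_eval₂RingHom, Polynomial.eval₂_C]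
      rw [← hφ, ← hm]
      change (algebraMap (MvPolynomial ι R) B r) ⊗ₜ[MvPolynomial ι R] 1 =
        1 ⊗ₜ[MvPolynomial ι R] (algebraMap (MvPolynomial ι R) (MvPolynomial (Option ι) R) r)
      rw [Algebra.algebraMap_eq_smul_one, Algebra.algebraMap_eq_smul_one, TensorProduct.smul_tmul]
    · simp only [kap, RingHom.comp_apply, Polynomial.coe_mapRingHom, Polynomial.map_X,
        Polynomial.coe_eval₂RingHom, Polynomial.eval₂_X]
      rfl
  exact congr($this p)

include hφ hm in
theorem exists_tD_pow (z : B ⊗[MvPolynomial ι R] MvPolynomial (Option ι) R) :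
    ∃ (N : ℕ) (p : Polynomial B), tD R ι B ^ N * z = kap R ι B p := by
  induction z using TensorProduct.induction_on with
  | zero => exact ⟨0, 0, by simp⟩
  | tmul b w =>
    obtain ⟨N, p, hp⟩ := exists_t_pow w
    refine ⟨N, Polynomial.C b * p.map φ, ?_⟩
    rw [map_mul, kap_map φ hφ hm, ← hp]
    rw [tD, Algebra.TensorProduct.tmul_pow, Algebra.TensorProduct.tmul_mul_tmul, one_pow, one_mul]
    simp only [kap, Polynomial.coe_eval₂RingHom, Polynomial.eval₂_C]
    change _ = (b ⊗ₜ 1) * _
    rw [Algebra.TensorProduct.tmul_mul_tmul, one_mul, mul_one]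
  | add x y hx hy =>
    obtain ⟨N, p', hp'⟩ := hx
    obtain ⟨M, q', hq'⟩ := hy
    refine ⟨N + M, Polynomial.X ^ M * p' + Polynomial.X ^ N * q', ?_⟩
    have hX : kap R ι B Polynomial.X = tD R ι B := by simp [kap]
    rw [map_add, map_mul, map_mul, map_pow, map_pow, hX, ← hp', ← hq']
    ring

theorem tD_regular [Module.Flat (MvPolynomial ι R) B]
    (z : B ⊗[MvPolynomial ι R] MvPolynomial (Option ι) R) (hz : tD R ι B * z = 0) : z = 0 := by
  have hinj : Function.Injective
      (LinearMap.mulLeft (MvPolynomial ι R) (MvPolynomial.X none : MvPolynomial (Option ι) R)) := by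
    intro a b hab
    exact (MvPolynomial.isRegular_X (R := R) (n := (none : Option ι))).left hab
  have h := Module.Flat.lTensor_preserves_injective_linearMap (M := B) _ hinj
  apply h
  rw [map_zero, ← hz]
  generalize z = z
  induction z using TensorProduct.induction_on with
  | zero => simp
  | tmul b w =>
    rw [LinearMap.lTensor_tmul, tD, Algebra.TensorProduct.tmul_mul_tmul, one_mul]
    rfl
  | add x y hx hy => rw [map_add, hx, hy, mul_add]

include hφ hm in
theorem bijective [Module.Flat (MvPolynomial ι R) B]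
    (hI : I = Ideal.span (Set.range fun i => φ (MvPolynomial.X i)))
    (θ : B ⊗[MvPolynomial ι R] MvPolynomial (Option ι) R →+* rees I)
    (h1 : ∀ b, θ (b ⊗ₜ 1) = algebraMap B (rees I) b)
    (h2 : ∀ w, θ (1 ⊗ₜ w) = toRees φ I
      (fun i => hI ▸ Ideal.subset_span ⟨i, rfl⟩) w) :
    Function.Bijective θ := by
  have hI' : ∀ i, φ (MvPolynomial.X i) ∈ I := fun i => hI ▸ Ideal.subset_span ⟨i, rfl⟩
  have hκ : ∀ p, ((θ (kap R ι B p) : rees I) : B[T;T⁻¹]) = Polynomial.toLaurent p := by
    have : ((rees I).subtype.comp θ).comp (kap R ι B) = Polynomial.toLaurent := by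
      apply Polynomial.ringHom_ext
      · intro b
        simp only [kap, RingHom.comp_apply, Polynomial.coe_eval₂RingHom, Polynomial.eval₂_C]
        rw [Polynomial.toLaurent_C]
        change ((θ (b ⊗ₜ 1) : rees I) : B[T;T⁻¹]) = _
        rw [h1]
        rfl
      · simp only [kap, RingHom.comp_apply, Polynomial.coe_eval₂RingHom, Polynomial.eval₂_X]
        rw [Polynomial.toLaurent_X]
        change ((θ (1 ⊗ₜ MvPolynomial.X none) : rees I) : B[T;T⁻¹]) = _
        rw [h2, toRees_none]
        rfl
    intro p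
    exact congr($this p)
  have ht : θ (tD R ι B) = t I := by
    rw [tD, h2, toRees_none]
  constructor
  · rw [injective_iff_map_eq_zero]
    intro z hz
    obtain ⟨N, p, hp⟩ := exists_tD_pow φ hφ hm z
    have hp0 : Polynomial.toLaurent p = (0 : B[T;T⁻¹]) := by
      rw [← hκ, ← hp, map_mul, hz, mul_zero]
      rfl
    rw [Polynomial.toLaurent_eq_zero] at hp0
    rw [hp0, map_zero] at hp
    clear hp0
    induction N with
    | zero => simpa using hp
    | succ N ih =>
      apply ih
      apply tD_regular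
      rw [← mul_assoc, ← pow_succ', hp]
  · rintro ⟨q, hq⟩
    let A : Subring B[T;T⁻¹] := ((rees I).subtype.comp θ : _ →+* _).range
    have hqA : q ∈ A := by
      refine rees_le (Set.range fun i => φ (MvPolynomial.X i)) hI A ?_ ?_ ?_ hq
      · intro b
        exact ⟨b ⊗ₜ 1, by rw [RingHom.comp_apply, h1]; rfl⟩
      · exact ⟨tD R ι B, by rw [RingHom.comp_apply, ht]; rfl⟩
      · rintro _ ⟨i, rfl⟩
        refine ⟨1 ⊗ₜ MvPolynomial.X (some i), ?_⟩
        rw [RingHom.comp_apply, h2, toRees_some]
        rfl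
    obtain ⟨z, hz⟩ := hqA
    exact ⟨z, Subtype.ext hz⟩

end Flat

end

end Groth.Agent.Vancyc.H120.ReesFlat
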