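import Groth.Agent.Vancyc.H120.ReesFlat
import Groth.Agent.FlatB.AffSpaceSmooth
import Mathlib.AlgebraicGeometry.Morphisms.Smooth
import Mathlib.Algebra.Category.Ring.Constructions

/-!
# Smoothness of the spectrum of the extended Rees algebra over the affine line
-/

set_option autoImplicit false
universe u v w

open LaurentPolynomial TensorProduct CategoryTheory CategoryTheory.Limits AlgebraicGeometry

namespace Groth.Agent.Vancyc.H120.ReesSch

open Rees ReesFlat

noncomputable section

section Pushout

variable {R : Type u} [CommRing R] {ι : Type} {B : Type u} [CommRing B]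
  (φ : MvPolynomial ι R →+* B) (I : Ideal B)
  (hI : I = Ideal.span (Set.range fun i => φ (MvPolynomial.X i)))

theorem mem_of_eq {φ : MvPolynomial ι R →+* B} {I : Ideal B}
    (hI : I = Ideal.span (Set.range fun i => φ (MvPolynomial.X i))) (i : ι) :
    φ (MvPolynomial.X i) ∈ I := hI ▸ Ideal.subset_span ⟨i, rfl⟩

include hI in
/-- `rees I = B ⊗_{R[x]} R[t,u]`. -/
theorem isPushout (hφ : φ.Flat) :
    IsPushout (CommRingCat.ofHom φ)
      (CommRingCat.ofHom (mulMap R ι : MvPolynomial ι R →+* MvPolynomial (Option ι) R))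
      (CommRingCat.ofHom (algebraMap B (rees I)))
      (CommRingCat.ofHom (toRees φ I (mem_of_eq hI))) := by
  let i1 : Algebra (MvPolynomial ι R) B := φ.toAlgebra
  let i2 : Algebra (MvPolynomial ι R) (MvPolynomial (Option ι) R) :=
    (mulMap R ι : MvPolynomial ι R →+* MvPolynomial (Option ι) R).toAlgebra
  let i3 : Algebra (MvPolynomial ι R) (rees I) := ((algebraMap B (rees I)).comp φ).toAlgebra
  have hfl : Module.Flat (MvPolynomial ι R) B := hφ
  let f1 : B →ₐ[MvPolynomial ι R] rees I :=
    { (algebraMap B (rees I)) with commutes' := fun r => rfl }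
  let f2 : MvPolynomial (Option ι) R →ₐ[MvPolynomial ι R] rees I :=
    { (toRees φ I (mem_of_eq hI)) with commutes' := fun r => toRees_mulMap φ I (mem_of_eq hI) r }
  let θ : B ⊗[MvPolynomial ι R] MvPolynomial (Option ι) R →+* rees I :=
    (Algebra.TensorProduct.productMap f1 f2 : _ →ₐ[MvPolynomial ι R] _)
  have hθ : ∀ b w, θ (b ⊗ₜ w) = algebraMap B (rees I) b * toRees φ I (mem_of_eq hI) w :=
    fun b w => Algebra.TensorProduct.productMap_apply_tmul f1 f2 b w
  have hb : Function.Bijective θ := by
    refine bijective φ I rfl rfl hI θ ?_ ?_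
    · intro b; rw [hθ, map_one, mul_one]
    · intro w; rw [hθ, map_one, one_mul]
  refine (CommRingCat.isPushout_tensorProduct (MvPolynomial ι R) B
    (MvPolynomial (Option ι) R)).of_iso (Iso.refl _) (Iso.refl _) (Iso.refl _)
    (RingEquiv.ofBijective θ hb).toCommRingCatIso ?_ ?_ ?_ ?_
  · rfl
  · rfl
  · apply CommRingCat.hom_ext
    refine RingHom.ext fun b => ?_
    change θ (b ⊗ₜ 1) = _
    rw [hθ, map_one, mul_one]
    rfl
  · apply CommRingCat.hom_ext
    refine RingHom.ext fun w => ?_
    change θ (1 ⊗ₜ w) = _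
    rw [hθ, map_one, one_mul]
    rfl

include hI in
theorem isPullback (hφ : φ.Flat) :
    IsPullback (Spec.map (CommRingCat.ofHom (toRees φ I (mem_of_eq hI))))
      (Spec.map (CommRingCat.ofHom (algebraMap B (rees I))))
      (Spec.map (CommRingCat.ofHom
        (mulMap R ι : MvPolynomial ι R →+* MvPolynomial (Option ι) R)))
      (Spec.map (CommRingCat.ofHom φ)) := by
  exact ((isPushout φ I hI hφ).op.map Scheme.Spec)

/-- `R[t] → R[t,u]`. -/
def tMap (R : Type u) [CommRing R] (ι : Type) : Polynomial R →+* MvPolynomial (Option ι) R :=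
  Polynomial.eval₂RingHom MvPolynomial.C (MvPolynomial.X none)

/-- `R[t] → rees I`. -/
def tRees (I : Ideal B) (ρ : R →+* B) : Polynomial R →+* rees I :=
  Polynomial.eval₂RingHom ((algebraMap B (rees I)).comp ρ) (t I)

theorem toRees_tMap : (toRees φ I (mem_of_eq hI)).comp (tMap R ι) =
    tRees I (φ.comp MvPolynomial.C) := by
  apply Polynomial.ringHom_ext
  · intro r
    simp [tMap, tRees]
  · simp [tMap, tRees]

end Pushout

section Smooth

theorem tMap_smooth (R : Type u) [CommRing R] (n : ℕ) :
    SmoothOfRelativeDimension n (Spec.map (CommRingCat.ofHom (tMap R (Fin n)))) := by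
  have h := FlatB.AffSpaceSmooth.smoothOfRelativeDimension_SpecMap (Polynomial R) n
  let e := MvPolynomial.optionEquivRight R (Fin n)
  have he : (tMap R (Fin n)) = (e.symm.toRingEquiv : MvPolynomial (Fin n) (Polynomial R) →+*
      MvPolynomial (Option (Fin n)) R).comp (algebraMap (Polynomial R)
        (MvPolynomial (Fin n) (Polynomial R))) := by
    apply Polynomial.ringHom_ext
    · intro r
      apply e.injective
      change e (tMap R (Fin n) (Polynomial.C r)) = e (e.symm (MvPolynomial.C (Polynomial.C r)))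
      rw [AlgEquiv.apply_symm_apply]
      simp [tMap, e]
    · apply e.injective
      change e (tMap R (Fin n) Polynomial.X) = e (e.symm (MvPolynomial.C Polynomial.X))
      rw [AlgEquiv.apply_symm_apply]
      simp [tMap, e]
  rw [he, CommRingCat.ofHom_comp, Spec.map_comp]
  have : IsIso (CommRingCat.ofHom (e.symm.toRingEquiv : MvPolynomial (Fin n) (Polynomial R) →+*
      MvPolynomial (Option (Fin n)) R)) :=
    inferInstanceAs (IsIso (e.symm.toRingEquiv.toCommRingCatIso).hom)
  rw [MorphismProperty.cancel_left_of_respectsIso (P := @SmoothOfRelativeDimension n)]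
  exact h

variable {R : Type u} [CommRing R] {n : ℕ} {B : Type u} [CommRing B]
  (φ : MvPolynomial (Fin n) R →+* B) (I : Ideal B)
  (hI : I = Ideal.span (Set.range fun i => φ (MvPolynomial.X i)))

include hI in
theorem smooth_rees (r : ℕ) (hφ : SmoothOfRelativeDimension r (Spec.map (CommRingCat.ofHom φ))) :
    SmoothOfRelativeDimension (r + n)
      (Spec.map (CommRingCat.ofHom (tRees I (φ.comp MvPolynomial.C)))) := by
  have hfl : φ.Flat := by
    have := SmoothOfRelativeDimension.smooth r (Spec.map (CommRingCat.ofHom φ))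
    have h2 : Flat (Spec.map (CommRingCat.ofHom φ)) := inferInstance
    exact (HasRingHomProperty.Spec_iff (P := @Flat)).1 h2
  have h1 := isPullback φ I hI hfl
  have := smoothOfRelativeDimension_isStableUnderBaseChange (n := r)
  have h2 : SmoothOfRelativeDimension r
      (Spec.map (CommRingCat.ofHom (toRees φ I (mem_of_eq hI)))) :=
    MorphismProperty.of_isPullback h1.flip hφ
  have h3 := tMap_smooth R n
  rw [← toRees_tMap φ I hI, CommRingCat.ofHom_comp, Spec.map_comp]
  infer_instance

theorem toLaurent_mem (I : Ideal B) (f : Polynomial B) : Polynomial.toLaurent f ∈ rees I := by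
  intro m
  rcases le_or_gt 0 m with h | h
  · have : ex m = 0 := by unfold ex; omega
    rw [this]; simp
  · rw [coeff_toLaurent, Finsupp.mapDomain_of_notMem_range]
    · exact zero_mem _
    · rintro ⟨k, hk⟩
      change (k : ℤ) = m at hk
      omega

/-- The inclusion of the Rees algebra in the Laurent polynomials is the localization at `t`. -/
theorem isLocalization_subtype (I : Ideal B) :
    @IsLocalization.Away _ _ (t I) B[T;T⁻¹] _ (rees I).subtype.toAlgebra := by
  let _ : Algebra (rees I) B[T;T⁻¹] := (rees I).subtype.toAlgebra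
  have halg : ∀ p : rees I, algebraMap (rees I) B[T;T⁻¹] p = p := fun _ => rfl
  refine IsLocalization.Away.mk _ ?_ ?_ ?_
  · exact isUnit_T 1
  · intro s
    obtain ⟨n, f, hf⟩ := s.exists_T_pow
    refine ⟨n, ⟨Polynomial.toLaurent f, toLaurent_mem I f⟩, ?_⟩
    have h1 : (algebraMap (rees I) B[T;T⁻¹] (t I)) ^ n = T n := by
      rw [halg, coe_t, T_pow]; simp
    rw [h1]
    exact hf.symm
  · intro a b hab
    exact ⟨0, by rw [pow_zero, one_mul, one_mul]; exact Subtype.ext hab⟩

theorem isUnit_t_top : IsUnit (t (⊤ : Ideal B)) := by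
  rw [isUnit_iff_exists_inv]
  exact ⟨u ⊤ 1 trivial, by rw [t_mul_u, map_one]⟩

theorem bijective_subtype_top : Function.Bijective (rees (⊤ : Ideal B)).subtype := by
  refine ⟨Subtype.val_injective, fun p => ⟨⟨p, fun n => ?_⟩, rfl⟩⟩
  rw [Ideal.top_pow]
  trivial

/-- The unit ideal: `rees ⊤ = B[T;T⁻¹]`. -/
theorem smooth_rees_top (r : ℕ) (ρ : R →+* B) (hI : I = ⊤)
    (hρ : SmoothOfRelativeDimension r (Spec.map (CommRingCat.ofHom ρ))) :
    SmoothOfRelativeDimension r (Spec.map (CommRingCat.ofHom (tRees I ρ))) := by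
  subst hI
  let i1 : Algebra R B := ρ.toAlgebra
  have h1 : IsPushout (CommRingCat.ofHom ρ) (CommRingCat.ofHom (Polynomial.C : R →+* Polynomial R))
      (CommRingCat.ofHom (Polynomial.C : B →+* Polynomial B))
      (CommRingCat.ofHom (Polynomial.mapRingHom ρ)) := by
    let i2 : Algebra (Polynomial R) (Polynomial B) := (Polynomial.mapRingHom ρ).toAlgebra
    exact CommRingCat.isPushout_of_isPushout R B (Polynomial R) (Polynomial B)
  have := smoothOfRelativeDimension_isStableUnderBaseChange (n := r)
  have h2 : SmoothOfRelativeDimension r (Spec.map (CommRingCat.ofHom (Polynomial.mapRingHom ρ))) :=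
    MorphismProperty.of_isPullback (h1.op.map Scheme.Spec).flip hρ
  have h3 : IsOpenImmersion
      (Spec.map (CommRingCat.ofHom (Polynomial.toLaurent : Polynomial B →+* B[T;T⁻¹]))) := by
    exact IsOpenImmersion.of_isLocalization (R := Polynomial B) (S := B[T;T⁻¹]) Polynomial.X
  let e : rees (⊤ : Ideal B) ≃+* B[T;T⁻¹] := RingEquiv.ofBijective _ bijective_subtype_top
  have h4 : tRees (⊤ : Ideal B) ρ = (e.symm : B[T;T⁻¹] →+* rees (⊤ : Ideal B)).comp
      ((Polynomial.toLaurent : Polynomial B →+* B[T;T⁻¹]).comp (Polynomial.mapRingHom ρ)) := by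
    apply Polynomial.ringHom_ext
    · intro x
      apply e.injective
      simp only [RingHom.comp_apply, Polynomial.coe_mapRingHom, Polynomial.map_C,
        Polynomial.toLaurent_C, RingEquiv.coe_toRingHom, RingEquiv.apply_symm_apply]
      simp [tRees]
      rfl
    · apply e.injective
      simp only [RingHom.comp_apply, Polynomial.coe_mapRingHom, Polynomial.map_X,
        Polynomial.toLaurent_X, RingEquiv.coe_toRingHom, RingEquiv.apply_symm_apply]
      simp [tRees]
      rfl
  rw [h4, CommRingCat.ofHom_comp, CommRingCat.ofHom_comp, Spec.map_comp, Spec.map_comp]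
  have : IsIso (CommRingCat.ofHom (e.symm : B[T;T⁻¹] →+* rees (⊤ : Ideal B))) :=
    inferInstanceAs (IsIso (e.symm.toCommRingCatIso).hom)
  rw [MorphismProperty.cancel_left_of_respectsIso (P := @SmoothOfRelativeDimension r)]
  have h5 : SmoothOfRelativeDimension (0 + r)
    (Spec.map (CommRingCat.ofHom (Polynomial.toLaurent : Polynomial B →+* B[T;T⁻¹])) ≫
      Spec.map (CommRingCat.ofHom (Polynomial.mapRingHom ρ))) := inferInstance
  rwa [zero_add] at h5

end Smooth

end

end Groth.Agent.Vancyc.H120.ReesSch
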