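import Groth.Agent.Vancyc.H120.PairChart
import Groth.Agent.Vancyc.H691.Cone
import Groth.Agent.Sga67.LocBasis
import Mathlib.LinearAlgebra.SymmetricAlgebra.Basis
import Mathlib.AlgebraicGeometry.Morphisms.Separated

/-!
# Vector bundles: charts and the zero section
-/

set_option autoImplicit false
universe u

open CategoryTheory CategoryTheory.Limits AlgebraicGeometry Opposite
open AlgebraicGeometry.Scheme.AffineZariskiSite AlgebraicGeometry.Scheme

namespace Groth.Agent.Vancyc.H120.VBundle

open Groth.Agent.Sga4h.H13 AffChart PairChart Groth.Agent.CohqB.AlgSym Groth.Agent.CohqB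
open Groth.Agent.Vancyc.H691.Cone

noncomputable section

/-! ### Algebra -/

section Alg

theorem sub_C_mem {R : Type*} [CommRing R] {ι : Type*} (p : MvPolynomial ι R) :
    p - MvPolynomial.C (MvPolynomial.constantCoeff p) ∈
      Ideal.span (Set.range (MvPolynomial.X (R := R) (σ := ι))) := by
  induction p using MvPolynomial.induction_on with
  | C a => simp
  | add p q hp hq =>
    rw [map_add, map_add, add_sub_add_comm]
    exact add_mem hp hq
  | mul_X p i _ =>
    have : MvPolynomial.constantCoeff (p * MvPolynomial.X i) = 0 := by simp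
    rw [this, map_zero, sub_zero]
    exact Ideal.mul_mem_left _ _ (Ideal.subset_span ⟨i, rfl⟩)

variable {R M D : Type u} [CommRing R] [AddCommGroup M] [Module R M] [CommRing D] {ι : Type*}
  (b : Module.Basis ι R M) (ψ : SymmetricAlgebra R M →+* D)

include b in
theorem ker_eq_span (h1 : Function.Injective (ψ.comp (algebraMap R (SymmetricAlgebra R M))))
    (h2 : ∀ x : M, ψ (SymmetricAlgebra.ι R M x) = 0) :
    RingHom.ker ψ = Ideal.span (Set.range fun i => SymmetricAlgebra.ι R M (b i)) := by
  have key : ∀ s : SymmetricAlgebra R M, ∃ c : R, s - algebraMap R _ c ∈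
      Ideal.span (Set.range fun i => SymmetricAlgebra.ι R M (b i)) := by
    intro s
    obtain ⟨p, rfl⟩ := (SymmetricAlgebra.equivMvPolynomial b).symm.surjective s
    refine ⟨MvPolynomial.constantCoeff p, ?_⟩
    have h := Ideal.mem_map_of_mem
      (SymmetricAlgebra.equivMvPolynomial b).symm.toAlgHom.toRingHom (sub_C_mem p)
    rw [Ideal.map_span, ← Set.range_comp] at h
    have h3 : ((SymmetricAlgebra.equivMvPolynomial b).symm.toAlgHom.toRingHom : _ → _) ∘
        (MvPolynomial.X (R := R) (σ := ι)) = fun i => SymmetricAlgebra.ι R M (b i) := by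
      funext i
      exact SymmetricAlgebra.equivMvPolynomial_symm_X b i
    rw [h3, map_sub] at h
    have h4 : (SymmetricAlgebra.equivMvPolynomial b).symm.toAlgHom.toRingHom
        (MvPolynomial.C (MvPolynomial.constantCoeff p)) =
        algebraMap R _ (MvPolynomial.constantCoeff p) :=
      (SymmetricAlgebra.equivMvPolynomial b).symm.commutes _
    rw [h4] at h
    exact h
  apply le_antisymm
  · intro s hs
    obtain ⟨c, hc⟩ := key s
    have h3 : Ideal.span (Set.range fun i => SymmetricAlgebra.ι R M (b i)) ≤ RingHom.ker ψ := by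
      rw [Ideal.span_le]
      rintro _ ⟨i, rfl⟩
      exact h2 _
    have h4 : ψ (algebraMap R _ c) = 0 := by
      have := h3 hc
      rw [RingHom.mem_ker, map_sub, (RingHom.mem_ker).1 hs, zero_sub, neg_eq_zero] at this
      exact this
    have h5 : c = 0 := h1 (by rw [map_zero]; exact h4)
    rwa [h5, map_zero, sub_zero] at hc
  · rw [Ideal.span_le]
    rintro _ ⟨i, rfl⟩
    exact h2 _

end Alg

/-! ### Bases -/

variable {X : Scheme.{u}} {G : X.Modules} {m : ℕ}

theorem exists_basis (h : FlatMod.IsFinLocFreeOfRank m G) (x : X) :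
    ∃ U : X.AffineZariskiSite, x ∈ U.toOpens ∧
      Nonempty (Module.Basis (Fin m) Γ(X, U.toOpens) Γ(G, U.toOpens)) := by
  obtain ⟨V, hxV, hV⟩ := h x
  obtain ⟨b, hb⟩ := Sga67.LocBasis.nonempty_restrict_iso_iff.1 hV
  obtain ⟨_, ⟨U, hU, rfl⟩, hxU, hUV⟩ :=
    X.isBasis_affineOpens.exists_subset_of_mem_open hxV V.isOpen
  exact ⟨⟨U, hU⟩, hxU, ⟨hb.basis hUV⟩⟩

variable (hG : Coh.IsQCoh G)

theorem str_eq (U : X.AffineZariskiSite) : RelSpec.str (symα G) U =
    CommRingCat.ofHom (algebraMap Γ(X, U.toOpens)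
      (SymmetricAlgebra Γ(X, U.toOpens) Γ(G, U.toOpens))) := rfl

/-- The chart of the vector bundle. -/
def ch (U : X.AffineZariskiSite) :
    Spec (CommRingCat.of (SymmetricAlgebra Γ(X, U.toOpens) Γ(G, U.toOpens))) ⟶ V hG :=
  RelSpec.ι (coequifibered hG) U

instance (U : X.AffineZariskiSite) : IsOpenImmersion (ch hG U) :=
  inferInstanceAs (IsOpenImmersion (RelSpec.ι (coequifibered hG) U))

theorem isPullback_ch (U : X.AffineZariskiSite) :
    IsPullback (ch hG U) (Spec.map (CommRingCat.ofHom (algebraMap Γ(X, U.toOpens)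
      (SymmetricAlgebra Γ(X, U.toOpens) Γ(G, U.toOpens))))) (toX hG)
      (RelSpec.isAff U).fromSpec := RelSpec.isPullback_ι (coequifibered hG) U

theorem preimage_toX (U : X.AffineZariskiSite) : toX hG ⁻¹ᵁ U.toOpens = (ch hG U).opensRange :=
  RelSpec.preimage (coequifibered hG) U

/-- The augmentation. -/
def aug (U : X.AffineZariskiSite) :
    SymmetricAlgebra Γ(X, U.toOpens) Γ(G, U.toOpens) →+* Γ(X, (𝟙 X) ⁻¹ᵁ U.toOpens) :=
  ψ (𝟙 X) (0 : G ⟶ _) U.toOpens

theorem isPullback_zero (U : X.AffineZariskiSite) :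
    IsPullback (Spec.map (CommRingCat.ofHom (aug (G := G) U)))
      ((RelSpec.isAff U).preimage (𝟙 X)).fromSpec (ch hG U) (zero hG) := by
  have h := RelSpec.isPullback_lift (coequifibered hG) (liftData (𝟙 X) (0 : G ⟶ _)) U
  refine h.of_iso ((RelSpec.isAff U).preimage (𝟙 X)).isoSpec (Iso.refl _) (Iso.refl _)
    (Iso.refl _) ?_ ?_ ?_ ?_
  · simp only [Iso.refl_hom, IsAffineOpen.isoSpec_hom]
    exact Category.comp_id _
  · exact (Category.comp_id _).trans (IsAffineOpen.isoSpec_hom_fromSpec _).symm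
  · exact (Category.comp_id _).trans (Category.id_comp _).symm
  · exact (Category.comp_id _).trans (Category.id_comp _).symm

theorem aug_algebraMap_bijective (U : X.AffineZariskiSite) :
    Function.Bijective ((aug (G := G) U).comp (algebraMap Γ(X, U.toOpens) _)) := by
  have h : (aug (G := G) U).comp (algebraMap Γ(X, U.toOpens) _) = ((𝟙 X : X ⟶ X).app U.toOpens).hom :=
    RingHom.ext fun r => ψ_algebraMap _ _ _ r
  rw [h]
  exact ConcreteCategory.bijective_of_isIso ((𝟙 X : X ⟶ X).app U.toOpens)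

theorem aug_ι (U : X.AffineZariskiSite) (g : Γ(G, U.toOpens)) :
    aug (G := G) U (SymmetricAlgebra.ι _ _ g) = 0 := by
  refine (ψ_ι _ _ _ g).trans ?_
  rw [show (0 : G ⟶ Groth.Agent.CohqB.AlgSys.Oalg (𝟙 X)).app U.toOpens g = 0 from rfl, map_zero]

theorem aug_surjective (U : X.AffineZariskiSite) : Function.Surjective (aug (G := G) U) :=
  fun a => by
    obtain ⟨r, hr⟩ := (aug_algebraMap_bijective (G := G) U).2 a
    exact ⟨algebraMap _ _ r, hr⟩

theorem ker_aug {ι : Type*} (U : X.AffineZariskiSite)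
    (b : Module.Basis ι Γ(X, U.toOpens) Γ(G, U.toOpens)) :
    RingHom.ker (aug (G := G) U) = Ideal.span (Set.range fun i => SymmetricAlgebra.ι _ _ (b i)) :=
  ker_eq_span b _ (aug_algebraMap_bijective U).1 (aug_ι U)

instance isClosedImmersion_zero : IsClosedImmersion (zero hG) := by
  have : IsAffineHom (toX hG) := isAffineHom_toX hG
  have : IsClosedImmersion (zero hG ≫ toX hG) := by
    rw [zero_toX]
    infer_instance
  exact IsClosedImmersion.of_comp (zero hG) (toX hG)

end

end Groth.Agent.Vancyc.H120.VBundle
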