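import Groth.Agent.Vancyc.H120.VBundle2
import Groth.Agent.Vancyc.H263.AffBundle

/-!
# Vector bundles are acyclic
-/

set_option autoImplicit false
universe u

open CategoryTheory CategoryTheory.Limits AlgebraicGeometry Opposite

namespace Groth.Agent.Vancyc.H120.VBundle

open Groth.Agent.CohqB.AlgSym Groth.Agent.Vancyc.H263.AffBundle

variable {X : Scheme.{u}} {G : X.Modules} {m : ℕ} (hG : Coh.IsQCoh G)

/-- Vector bundles are affine bundles. -/
theorem isAffBundle (h : FlatMod.IsFinLocFreeOfRank m G) : IsAffBundle m (toX hG) := fun z =>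
  exists_trivialization hG h z

/-- **Vector bundles are acyclic.** -/
theorem acyc (h : FlatMod.IsFinLocFreeOfRank m G) {n : ℕ} (hn : IsUnit (n : Γ(X, ⊤))) :
    Groth.Agent.Sga4B.AcycMor.Acyc n (toX hG) :=
  (isAffBundle hG h).acyc hn

end Groth.Agent.Vancyc.H120.VBundle
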